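import Mathlib.LinearAlgebra.FiniteDimensional.Lemmas
import Mathlib.LinearAlgebra.Dimension.Free
import Mathlib.Algebra.Module.ZMod
import Mathlib.Algebra.Field.ZMod
import Mathlib.GroupTheory.OrderOfElement
import Mathlib.Tactic.Abel
import Mathlib.Tactic.Module

/-!
Binary linear groups: a group `H` of linear maps of a vector space `V` over a prime field is
*binary* if two finite families of vectors are `H`-equivalent as soon as they are entrywise
equivalent and their pairwise differences are entrywise equivalent.  (This says that the affine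
group `V ⋊ H` is a binary permutation group.)  This file has the elementary consequences which
hold in every characteristic.
-/

set_option autoImplicit false

namespace Cfsg.Agent.BinaryAffine

variable {p : ℕ} [Fact p.Prime] {V : Type} [AddCommGroup V] [Module (ZMod p) V]

/-- Finite families with equivalent entries and equivalent differences are equivalent. -/
def Bin (H : Subgroup (V ≃ₗ[ZMod p] V)) : Prop :=
  ∀ (ι : Type) [Finite ι] (a b : ι → V), (∀ i, ∃ h ∈ H, h (a i) = b i) →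
    (∀ i j, ∃ h ∈ H, h (a i - a j) = b i - b j) → ∃ h ∈ H, ∀ i, h (a i) = b i

/-- The displacement map `h - 1`. -/
def R (h : V ≃ₗ[ZMod p] V) : V →ₗ[ZMod p] V := h.toLinearMap - LinearMap.id

theorem R_apply (h : V ≃ₗ[ZMod p] V) (x : V) : R h x = h x - x := rfl

/-- The fixed space. -/
def Fx (h : V ≃ₗ[ZMod p] V) : Submodule (ZMod p) V := LinearMap.ker (R h)

/-- The commutator space `(h - 1) V`. -/
def Im (h : V ≃ₗ[ZMod p] V) : Submodule (ZMod p) V := LinearMap.range (R h)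

theorem mem_fx {h : V ≃ₗ[ZMod p] V} {x : V} : x ∈ Fx h ↔ h x = x := by
  rw [Fx, LinearMap.mem_ker, R_apply, sub_eq_zero]

theorem mem_im {h : V ≃ₗ[ZMod p] V} {z : V} : z ∈ Im h ↔ ∃ x, h x - x = z := by
  rw [Im, LinearMap.mem_range]
  exact ⟨fun ⟨x, hx⟩ => ⟨x, hx⟩, fun ⟨x, hx⟩ => ⟨x, hx⟩⟩

theorem sub_mem_im (h : V ≃ₗ[ZMod p] V) (x : V) : h x - x ∈ Im h := mem_im.2 ⟨x, rfl⟩

theorem fx_eq_top_iff {h : V ≃ₗ[ZMod p] V} : Fx h = ⊤ ↔ h = 1 := by
  constructor
  · intro ht
    refine LinearEquiv.ext fun x => ?_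
    exact mem_fx.1 (ht ▸ Submodule.mem_top)
  · rintro rfl
    exact eq_top_iff.2 fun x _ => mem_fx.2 rfl

theorem im_eq_bot_iff {h : V ≃ₗ[ZMod p] V} : Im h = ⊥ ↔ h = 1 := by
  rw [← fx_eq_top_iff, Im, Fx, LinearMap.range_eq_bot, LinearMap.ker_eq_top]

theorem fx_le_pow (h : V ≃ₗ[ZMod p] V) (n : ℕ) : Fx h ≤ Fx (h ^ n) := by
  intro x hx
  rw [mem_fx] at hx ⊢
  induction n with
  | zero => simp
  | succ n ih => rw [pow_succ, LinearEquiv.mul_apply, hx, ih]

theorem fx_le_zpow (h : V ≃ₗ[ZMod p] V) (n : ℤ) : Fx h ≤ Fx (h ^ n) := by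
  intro x hx
  obtain ⟨m, rfl | rfl⟩ := n.eq_nat_or_neg
  · rw [zpow_natCast]
    exact fx_le_pow h m hx
  · rw [zpow_neg, zpow_natCast, mem_fx]
    have hm := mem_fx.1 (fx_le_pow h m hx)
    conv_lhs => rw [← hm]
    rw [← LinearEquiv.mul_apply, inv_mul_cancel]
    rfl

theorem fx_inf_le_mul (g h : V ≃ₗ[ZMod p] V) : Fx g ⊓ Fx h ≤ Fx (g * h) := by
  intro x hx
  obtain ⟨hg, hh⟩ := Submodule.mem_inf.1 hx
  rw [mem_fx] at hg hh ⊢
  rw [LinearEquiv.mul_apply, hh, hg]

theorem fx_inv (h : V ≃ₗ[ZMod p] V) : Fx h⁻¹ = Fx h := by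
  refine le_antisymm ?_ ?_
  · have := fx_le_zpow h⁻¹ (-1)
    simpa using this
  · have := fx_le_zpow h (-1)
    simpa using this

theorem mem_fx_conj {g h : V ≃ₗ[ZMod p] V} {x : V} :
    g x ∈ Fx (g * h * g⁻¹) ↔ x ∈ Fx h := by
  rw [mem_fx, mem_fx, LinearEquiv.mul_apply, LinearEquiv.mul_apply,
    show g⁻¹ (g x) = x from g.symm_apply_apply x]
  exact g.injective.eq_iff

theorem map_fx (g h : V ≃ₗ[ZMod p] V) :
    (Fx h).map g.toLinearMap = Fx (g * h * g⁻¹) := by
  ext y
  obtain ⟨x, rfl⟩ := g.surjective y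
  rw [mem_fx_conj]
  exact Submodule.mem_map.trans ⟨fun ⟨x', hx', he⟩ => g.injective he ▸ hx', fun hx => ⟨x, hx, rfl⟩⟩

theorem conj_apply_sub (g h : V ≃ₗ[ZMod p] V) (x : V) :
    (g * h * g⁻¹) (g x) - g x = g (h x - x) := by
  rw [LinearEquiv.mul_apply, LinearEquiv.mul_apply,
    show g⁻¹ (g x) = x from g.symm_apply_apply x, map_sub]

theorem map_im (g h : V ≃ₗ[ZMod p] V) :
    (Im h).map g.toLinearMap = Im (g * h * g⁻¹) := by
  ext y
  rw [Submodule.mem_map, mem_im]
  constructor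
  · rintro ⟨z, hz, rfl⟩
    obtain ⟨x, rfl⟩ := mem_im.1 hz
    exact ⟨g x, conj_apply_sub g h x⟩
  · rintro ⟨w, rfl⟩
    obtain ⟨x, rfl⟩ := g.surjective w
    exact ⟨h x - x, sub_mem_im h x, (conj_apply_sub g h x).symm⟩

instance finite_equiv [Finite V] : Finite (V ≃ₗ[ZMod p] V) :=
  Finite.of_injective (fun e : V ≃ₗ[ZMod p] V => (e : V → V)) DFunLike.coe_injective

theorem finrank_im_add_fx [Finite V] (h : V ≃ₗ[ZMod p] V) :
    Module.finrank (ZMod p) (Im h) + Module.finrank (ZMod p) (Fx h) =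
      Module.finrank (ZMod p) V :=
  LinearMap.finrank_range_add_finrank_ker (R h)

section

variable {H : Subgroup (V ≃ₗ[ZMod p] V)} (hbin : Bin H)
include hbin

/-- For `k ∈ H` and any `v`, some element of `H` maps `v` to `k² v` and fixes `k v`. -/
theorem exists_double {k : V ≃ₗ[ZMod p] V} (hk : k ∈ H) (v : V) :
    ∃ g ∈ H, g v = k (k v) ∧ g (k v) = k v := by
  have hpt : ∀ i : Bool, ∃ h ∈ H,
      h (if i then v else -(k v)) = if i then k (k v) else -(k v) := by
    intro i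
    cases i
    · exact ⟨1, one_mem H, rfl⟩
    · exact ⟨k * k, mul_mem hk hk, rfl⟩
  have hdiff : ∀ i j : Bool, ∃ h ∈ H,
      h ((if i then v else -(k v)) - (if j then v else -(k v))) =
        (if i then k (k v) else -(k v)) - (if j then k (k v) else -(k v)) := by
    intro i j
    cases i <;> cases j
    · exact ⟨1, one_mem H, by simp⟩
    · refine ⟨k, hk, ?_⟩
      simp only [↓reduceIte, Bool.false_eq_true, map_sub, map_neg]
      abel
    · refine ⟨k, hk, ?_⟩
      simp only [↓reduceIte, Bool.false_eq_true, map_sub, map_neg]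
      abel
    · exact ⟨1, one_mem H, by simp⟩
  obtain ⟨g, hg, hgi⟩ := hbin Bool _ _ hpt hdiff
  have h1 := hgi true
  have h2 := hgi false
  simp only [↓reduceIte, Bool.false_eq_true, map_neg, neg_inj] at h1 h2
  exact ⟨g, hg, h1, h2⟩

/-- Two vectors in the same orbit are swapped by an element of `H`. -/
theorem exists_swap {a b : V} (hab : ∃ h ∈ H, h a = b) : ∃ s ∈ H, s a = b ∧ s b = a := by
  obtain ⟨k, hk, rfl⟩ := hab
  obtain ⟨g, hg, h1, h2⟩ := exists_double hbin hk (k⁻¹ a)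
  have hka : k (k⁻¹ a) = a := k.apply_symm_apply a
  rw [hka] at h1 h2
  refine ⟨k * g⁻¹, mul_mem hk (inv_mem hg), ?_, ?_⟩
  · rw [LinearEquiv.mul_apply]
    refine congrArg k ?_
    apply g.injective
    rw [show g (g⁻¹ a) = a from g.apply_symm_apply a, h2]
  · rw [LinearEquiv.mul_apply, show g⁻¹ (k a) = k⁻¹ a from ?_, hka]
    apply g.injective
    rw [show g (g⁻¹ (k a)) = k a from g.apply_symm_apply _, h1]

end

end Cfsg.Agent.BinaryAffine
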