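import Mathlib.LinearAlgebra.Pi
import Mathlib.LinearAlgebra.Basis.VectorSpace
import Mathlib.GroupTheory.Perm.Cycle.Type
import Mathlib.Algebra.CharP.Algebra
import Mathlib.Algebra.CharP.Lemmas
import Cfsg.Agent.BinaryAffine.Basic

/-!
Binary irreducible linear groups in odd characteristic: the order is prime to `p`, the vectors
fixed by the stabiliser of `v` are the images of `v` under the commutant, and there is an
invariant non-degenerate symmetric form for which the commutant is self-adjoint.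
-/

set_option autoImplicit false

namespace Cfsg.Agent.BinaryAffine

variable {p : ℕ} [Fact p.Prime] {V : Type} [AddCommGroup V] [Module (ZMod p) V]

/-- Irreducibility of a linear group. -/
def Irr (H : Subgroup (V ≃ₗ[ZMod p] V)) : Prop :=
  ∀ U : Submodule (ZMod p) V, (∀ h ∈ H, ∀ x ∈ U, h x ∈ U) → U = ⊥ ∨ U = ⊤

/-- A linear map commuting with the group. -/
def Commutes (H : Subgroup (V ≃ₗ[ZMod p] V)) (f : V →ₗ[ZMod p] V) : Prop :=
  ∀ h ∈ H, ∀ x, f (h x) = h (f x)

/-- In odd characteristic a binary linear group has order prime to `p`. -/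
theorem not_dvd_card [Finite V] {H : Subgroup (V ≃ₗ[ZMod p] V)} (hbin : Bin H) (hp2 : p ≠ 2) :
    ¬ p ∣ Nat.card H := by
  intro hdvd
  obtain ⟨⟨h, hh⟩, hord⟩ := exists_prime_orderOf_dvd_card' p hdvd
  rw [← Subgroup.orderOf_coe] at hord
  simp only at hord
  have hne : h ≠ 1 := fun h1 => by
    rw [h1, orderOf_one] at hord
    exact (Fact.out : p.Prime).ne_one hord.symm
  have hV : Nontrivial V := by
    by_contra hV
    rw [not_nontrivial_iff_subsingleton] at hV
    exact hne (LinearEquiv.ext fun x => Subsingleton.elim _ _)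
  have hchar : CharP (Module.End (ZMod p) V) p :=
    charP_of_injective_algebraMap (algebraMap (ZMod p) (Module.End (ZMod p) V)).injective p
  have hnil : (R h : Module.End (ZMod p) V) ^ p = 0 := by
    have hpow : (h.toLinearMap : Module.End (ZMod p) V) ^ p = 1 := by
      refine LinearMap.ext fun x => ?_
      have : ∀ n : ℕ, ((h.toLinearMap : Module.End (ZMod p) V) ^ n) x = (h ^ n) x := by
        intro n
        induction n generalizing x with
        | zero => rfl
        | succ n ih => rw [pow_succ, pow_succ, Module.End.mul_apply, LinearEquiv.mul_apply, ih]; rfl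
      have e : h ^ p = 1 := by
        have := pow_orderOf_eq_one h
        rwa [hord] at this
      rw [this, e]
      rfl
    show ((h.toLinearMap : Module.End (ZMod p) V) - 1) ^ p = 0
    rw [sub_pow_char_of_commute _ (Commute.one_right _), hpow, one_pow, sub_self]
  obtain ⟨x₀, hx₀⟩ : ∃ x₀, R h x₀ ≠ 0 := by
    by_contra hcon
    push Not at hcon
    exact hne (fx_eq_top_iff.1 (eq_top_iff.2 fun x _ => mem_fx.2 (sub_eq_zero.1 (hcon x))))
  classical
  have hex : ∃ n, ((R h : Module.End (ZMod p) V) ^ n) x₀ = 0 :=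
    ⟨p, by rw [hnil]; rfl⟩
  set n := Nat.find hex with hn
  have hn0 := Nat.find_spec hex
  have hn2 : 2 ≤ n := by
    by_contra hcon
    push Not at hcon
    rcases (show n = 0 ∨ n = 1 by omega) with h0 | h0 <;> rw [← hn, h0] at hn0
    · rw [pow_zero, Module.End.one_apply] at hn0
      exact hx₀ (by rw [hn0, map_zero])
    · rw [pow_one] at hn0
      exact hx₀ hn0
  obtain ⟨m, hm⟩ : ∃ m, n = m + 2 := ⟨n - 2, by omega⟩
  set u := ((R h : Module.End (ZMod p) V) ^ m) x₀ with hu
  set v := h u - u with hv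
  have hv0 : v ≠ 0 := by
    intro hv1
    refine Nat.find_min hex (show m + 1 < n by omega) ?_
    rw [pow_succ', Module.End.mul_apply, ← hu]
    exact hv1
  have hhv : h v = v := by
    rw [← hn, hm] at hn0
    rw [pow_succ', pow_succ', Module.End.mul_apply, Module.End.mul_apply, ← hu] at hn0
    exact sub_eq_zero.1 hn0
  have hhu : h u = u + v := by rw [hv]; abel
  have hhhu : h (h u) = u + v + v := by rw [hhu, map_add, hhu, hhv]
  have hpt : ∀ i : Bool, ∃ k ∈ H,
      k (if i then u else u + u) = if i then u else (u + v) + (u + v) := by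
    intro i
    cases i
    · exact ⟨h, hh, by simp [hhu]⟩
    · exact ⟨1, one_mem H, rfl⟩
  have hdiff : ∀ i j : Bool, ∃ k ∈ H,
      k ((if i then u else u + u) - (if j then u else u + u)) =
        (if i then u else (u + v) + (u + v)) - (if j then u else (u + v) + (u + v)) := by
    intro i j
    cases i <;> cases j
    · exact ⟨1, one_mem H, by simp⟩
    · refine ⟨h * h, mul_mem hh hh, ?_⟩
      simp only [↓reduceIte, Bool.false_eq_true, LinearEquiv.mul_apply, add_sub_cancel_right,
        hhhu]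
      abel
    · refine ⟨h * h, mul_mem hh hh, ?_⟩
      simp only [↓reduceIte, Bool.false_eq_true, LinearEquiv.mul_apply, sub_add_cancel_left,
        map_neg, hhhu]
      abel
    · exact ⟨1, one_mem H, by simp⟩
  obtain ⟨g, hg, hgi⟩ := hbin Bool _ _ hpt hdiff
  have h1 := hgi true
  have h2 := hgi false
  simp only [↓reduceIte, Bool.false_eq_true] at h1 h2
  rw [map_add, h1] at h2
  have h3 : v + v = 0 := by
    have : (u + u) + (v + v) = (u + u) := by
      rw [show (u + u) + (v + v) = (u + v) + (u + v) by abel, ← h2]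
    exact add_eq_left.1 this
  have h4 : ((2 : ℕ) : ZMod p) • v = 0 := by
    rw [Nat.cast_smul_eq_nsmul, two_nsmul, h3]
  rcases smul_eq_zero.1 h4 with h5 | h5
  · rw [ZMod.natCast_eq_zero_iff] at h5
    exact hp2 ((Nat.prime_dvd_prime_iff_eq Fact.out Nat.prime_two).1 h5)
  · exact hv0 h5

/-- The data extracted from the permutation module on the orbit of `v`. -/
theorem orbit_data [Finite V] {H : Subgroup (V ≃ₗ[ZMod p] V)} (hbin : Bin H) (hirr : Irr H)
    (hp : ¬ p ∣ Nat.card H) {v : V} (hv : v ≠ 0) :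
    ∃ B : V →ₗ[ZMod p] V →ₗ[ZMod p] ZMod p,
      (∀ x y, B x y = B y x) ∧ (∀ h ∈ H, ∀ x y, B (h x) (h y) = B x y) ∧
      (∀ x, (∀ y, B x y = 0) → x = 0) ∧
      (∀ f, Commutes H f → ∀ x y, B (f x) y = B x (f y)) ∧
      (∀ f f', Commutes H f → Commutes H f' → ∀ x, f (f' x) = f' (f x)) ∧
      (∀ w, (∀ h ∈ H, h v = v → h w = w) → ∃ f, Commutes H f ∧ f v = w) := by
  classical
  let C := {c : V // ∃ h ∈ H, h v = c}
  have : Fintype C := Fintype.ofFinite _
  have : Fintype H := Fintype.ofFinite _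
  let act : H → C → C := fun h c => ⟨h.1 c.1, by
    obtain ⟨k, hk, hkc⟩ := c.2
    exact ⟨h.1 * k, mul_mem h.2 hk, by rw [LinearEquiv.mul_apply, hkc]⟩⟩
  have act_one : ∀ c, act 1 c = c := fun c => rfl
  have act_mul : ∀ g h c, act (g * h) c = act g (act h c) := fun g h c => rfl
  let ρ : H → ((C → ZMod p) →ₗ[ZMod p] (C → ZMod p)) := fun h =>
    LinearMap.funLeft (ZMod p) (ZMod p) (act h⁻¹)
  have ρ_apply : ∀ h f c, ρ h f c = f (act h⁻¹ c) := fun h f c => rfl
  have ρ_mul : ∀ g h f, ρ (g * h) f = ρ g (ρ h f) := fun g h f => by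
    funext c
    rw [ρ_apply, ρ_apply, ρ_apply, mul_inv_rev, act_mul]
  have ρ_single : ∀ h c, ρ h (Pi.single c 1) = Pi.single (act h c) 1 := by
    intro h c
    funext d
    rw [ρ_apply]
    by_cases hd : act h⁻¹ d = c
    · rw [hd, Pi.single_eq_same, ← hd, ← act_mul, mul_inv_cancel, act_one, Pi.single_eq_same]
    · rw [Pi.single_eq_of_ne hd, Pi.single_eq_of_ne]
      intro he
      exact hd (by rw [he, ← act_mul, inv_mul_cancel, act_one])
  have ρ_sum : ∀ h (f : C → ZMod p) (g : C → ZMod p),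
      ∑ c, ρ h f c * g c = ∑ c, f c * g (act h c) := by
    intro h f g
    refine (Fintype.sum_equiv ⟨act h, act h⁻¹, fun c => ?_, fun c => ?_⟩ _ _ fun c => ?_).symm
    · rw [← act_mul, inv_mul_cancel, act_one]
    · rw [← act_mul, mul_inv_cancel, act_one]
    · show f c * g (act h c) = ρ h f (act h c) * g (act h c)
      rw [ρ_apply, ← act_mul, inv_mul_cancel, act_one]
  -- equivariant endomorphisms are symmetric, hence commute
  have hsym : ∀ A : (C → ZMod p) →ₗ[ZMod p] (C → ZMod p), (∀ h f, A (ρ h f) = ρ h (A f)) →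
      ∀ c d, A (Pi.single d 1) c = A (Pi.single c 1) d := by
    intro A hA c d
    obtain ⟨k₁, hk₁, hc⟩ := c.2
    obtain ⟨k₂, hk₂, hd⟩ := d.2
    obtain ⟨s, hs, hsc, hsd⟩ := exists_swap hbin (a := c.1) (b := d.1)
      ⟨k₂ * k₁⁻¹, mul_mem hk₂ (inv_mem hk₁), by
        rw [LinearEquiv.mul_apply, ← hc, show k₁⁻¹ (k₁ v) = v from k₁.symm_apply_apply v, hd]⟩
    have e1 : act ⟨s, hs⟩ c = d := Subtype.ext hsc
    have e2 : act ⟨s, hs⟩ d = c := Subtype.ext hsd
    calc A (Pi.single d 1) c = A (ρ ⟨s, hs⟩ (Pi.single c 1)) c := by rw [ρ_single, e1]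
      _ = A (Pi.single c 1) (act ⟨s, hs⟩⁻¹ c) := by rw [hA, ρ_apply]
      _ = A (Pi.single c 1) d := by rw [← e2, ← act_mul, inv_mul_cancel, act_one]
  have happ : ∀ (A : (C → ZMod p) →ₗ[ZMod p] (C → ZMod p)) f c,
      A f c = ∑ d, f d * A (Pi.single d 1) c := by
    intro A f c
    conv_lhs => rw [LinearMap.pi_apply_eq_sum_univ A f]
    rw [Finset.sum_apply]
    refine Finset.sum_congr rfl fun d _ => ?_
    rw [Pi.smul_apply, smul_eq_mul]
    congr 1
    refine congrFun (congrArg A (funext fun e => ?_)) c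
    rw [Pi.single_apply]
    by_cases he : d = e <;> simp [he, eq_comm]
  have hadj : ∀ A : (C → ZMod p) →ₗ[ZMod p] (C → ZMod p), (∀ h f, A (ρ h f) = ρ h (A f)) →
      ∀ f g, ∑ c, A f c * g c = ∑ c, f c * A g c := by
    intro A hA f g
    simp only [happ A f, happ A g, Finset.sum_mul, Finset.mul_sum]
    rw [Finset.sum_comm]
    refine Finset.sum_congr rfl fun c _ => Finset.sum_congr rfl fun d _ => ?_
    rw [hsym A hA d c]
    ring
  have hcommA : ∀ A A' : (C → ZMod p) →ₗ[ZMod p] (C → ZMod p),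
      (∀ h f, A (ρ h f) = ρ h (A f)) → (∀ h f, A' (ρ h f) = ρ h (A' f)) →
      ∀ f, A (A' f) = A' (A f) := by
    intro A A' hA hA' f
    funext c
    calc A (A' f) c = ∑ d, A (A' f) d * (Pi.single c 1 : C → ZMod p) d := by
          rw [Finset.sum_eq_single c]
          · simp
          · intro d _ hd
            rw [Pi.single_eq_of_ne hd, mul_zero]
          · simp
      _ = ∑ d, f d * A' (A (Pi.single c 1)) d := by rw [hadj A hA, hadj A' hA']
      _ = ∑ d, f d * A' (A (Pi.single d 1)) c := by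
          refine Finset.sum_congr rfl fun d _ => ?_
          exact congrArg (f d * ·) (hsym (A' ∘ₗ A) (fun h f => by
            rw [LinearMap.comp_apply, LinearMap.comp_apply, hA, hA']) d c)
      _ = A' (A f) c := (happ (A' ∘ₗ A) f c).symm
  -- evaluation maps
  let T : (C → V) → ((C → ZMod p) →ₗ[ZMod p] V) := fun ψ =>
    ∑ c, (LinearMap.proj (R := ZMod p) (φ := fun _ : C => ZMod p) c).smulRight (ψ c)
  have T_apply : ∀ ψ f, T ψ f = ∑ c, f c • ψ c := fun ψ f => by simp [T]
  have T_single : ∀ ψ c, T ψ (Pi.single c 1) = ψ c := fun ψ c => by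
    rw [T_apply, Finset.sum_eq_single c]
    · rw [Pi.single_eq_same, one_smul]
    · intro d _ hd
      rw [Pi.single_eq_of_ne hd, zero_smul]
    · simp
  have T_equiv : ∀ ψ, (∀ (h : H) c, ψ (act h c) = h.1 (ψ c)) →
      ∀ (h : H) f, T ψ (ρ h f) = h.1 (T ψ f) := by
    intro ψ hψ h f
    rw [T_apply, T_apply, map_sum]
    refine (Fintype.sum_equiv ⟨act h, act h⁻¹, fun c => ?_, fun c => ?_⟩ _ _ fun c => ?_).symm
    · rw [← act_mul, inv_mul_cancel, act_one]
    · rw [← act_mul, mul_inv_cancel, act_one]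
    · show h.1 (f c • ψ c) = ρ h f (act h c) • ψ (act h c)
      rw [ρ_apply, ← act_mul, inv_mul_cancel, act_one, hψ, map_smul]
  let c₀ : C := ⟨v, 1, one_mem H, rfl⟩
  let Tv := T fun c => c.1
  have hTv : ∀ (h : H) f, Tv (ρ h f) = h.1 (Tv f) := T_equiv _ fun h c => rfl
  have hsurj : Function.Surjective Tv := by
    rw [← LinearMap.range_eq_top]
    refine (hirr _ ?_).resolve_left ?_
    · rintro h hh _ ⟨f, rfl⟩
      exact ⟨ρ ⟨h, hh⟩ f, hTv ⟨h, hh⟩ f⟩
    · intro hbot
      apply hv
      have : v ∈ LinearMap.range Tv := ⟨Pi.single c₀ 1, T_single _ c₀⟩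
      rw [hbot] at this
      exact this
  obtain ⟨σ₀, hσ₀⟩ := Tv.exists_rightInverse_of_surjective (LinearMap.range_eq_top.2 hsurj)
  have hn : (Nat.card H : ZMod p) ≠ 0 := fun h0 => hp ((ZMod.natCast_eq_zero_iff _ _).1 h0)
  let σ : V →ₗ[ZMod p] (C → ZMod p) :=
    (Nat.card H : ZMod p)⁻¹ • ∑ h : H, ρ h ∘ₗ σ₀ ∘ₗ (h.1⁻¹ : V ≃ₗ[ZMod p] V).toLinearMap
  have σ_apply : ∀ x, σ x = (Nat.card H : ZMod p)⁻¹ • ∑ h : H, ρ h (σ₀ (h.1⁻¹ x)) := fun x => by
    simp [σ]
  have hσT : ∀ x, Tv (σ x) = x := by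
    intro x
    rw [σ_apply, map_smul, map_sum]
    have : ∀ h : H, Tv (ρ h (σ₀ (h.1⁻¹ x))) = x := fun h => by
      rw [hTv, show Tv (σ₀ (h.1⁻¹ x)) = h.1⁻¹ x from LinearMap.congr_fun hσ₀ _]
      exact h.1.apply_symm_apply x
    rw [Finset.sum_congr rfl fun h _ => this h, Finset.sum_const, Finset.card_univ,
      ← Nat.card_eq_fintype_card, ← Nat.cast_smul_eq_nsmul (ZMod p), smul_smul,
      inv_mul_cancel₀ hn, one_smul]
  have hσ : ∀ (g : H) x, σ (g.1 x) = ρ g (σ x) := by
    intro g x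
    rw [σ_apply, σ_apply, map_smul, map_sum]
    congr 1
    refine (Fintype.sum_equiv (Equiv.mulLeft g) _ _ fun h => ?_).symm
    rw [← ρ_mul]
    simp only [Equiv.coe_mulLeft]
    refine congrArg (fun y => ρ (g * h) (σ₀ y)) ?_
    rw [Subgroup.coe_mul, mul_inv_rev, LinearEquiv.mul_apply]
    exact congrArg _ (g.1.symm_apply_apply x).symm
  have hlift : ∀ f, Commutes H f → ∀ h g, (σ ∘ₗ f ∘ₗ Tv) (ρ h g) = ρ h ((σ ∘ₗ f ∘ₗ Tv) g) := by
    intro f hf h g
    simp only [LinearMap.comp_apply]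
    rw [hTv, hf _ h.2, hσ]
  have hid : Commutes H (LinearMap.id : V →ₗ[ZMod p] V) := fun h _ x => rfl
  let B : V →ₗ[ZMod p] V →ₗ[ZMod p] ZMod p :=
    LinearMap.mk₂ (ZMod p) (fun x y => ∑ c, σ x c * σ y c)
      (fun a b y => by simp [add_mul, Finset.sum_add_distrib])
      (fun r a y => by simp [mul_assoc, Finset.mul_sum])
      (fun x a b => by simp [mul_add, Finset.sum_add_distrib])
      (fun r x a => by simp [mul_left_comm, Finset.mul_sum])
  have B_apply : ∀ x y, B x y = ∑ c, σ x c * σ y c := fun x y => rfl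
  refine ⟨B, fun x y => ?_, fun h hh x y => ?_, fun x hx => ?_, fun f hf x y => ?_,
    fun f f' hf hf' x => ?_, fun w hw => ?_⟩
  · rw [B_apply, B_apply]
    exact Finset.sum_congr rfl fun c _ => mul_comm _ _
  · rw [B_apply, B_apply, hσ ⟨h, hh⟩, hσ ⟨h, hh⟩, ρ_sum]
    refine Finset.sum_congr rfl fun c _ => ?_
    rw [ρ_apply, ← act_mul, inv_mul_cancel, act_one]
  · have h1 : ∀ f : C → ZMod p, ∑ c, σ x c * f c = 0 := fun f => by
      have h2 := hadj _ (hlift _ hid) (σ x) f
      simp only [LinearMap.comp_apply, LinearMap.id_apply, hσT] at h2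
      rw [h2, ← B_apply]
      exact hx _
    have h3 : σ x = 0 := funext fun c => by
      have := h1 (Pi.single c 1)
      rwa [Finset.sum_eq_single c (fun d _ hd => by rw [Pi.single_eq_of_ne hd, mul_zero])
        (by simp), Pi.single_eq_same, mul_one] at this
    rw [← hσT x, h3, map_zero]
  · have h2 := hadj _ (hlift f hf) (σ x) (σ y)
    simp only [LinearMap.comp_apply, hσT] at h2
    rw [B_apply, B_apply, h2]
  · have h2 := hcommA _ _ (hlift f hf) (hlift f' hf') (σ x)
    simp only [LinearMap.comp_apply, hσT] at h2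
    have h3 := congrArg Tv h2
    rwa [hσT, hσT] at h3
  · let ψ : C → V := fun c => c.2.choose w
    have hψ : ∀ (h : H) c, ψ (act h c) = h.1 (ψ c) := by
      intro h c
      have ha := (act h c).2.choose_spec
      have hb := c.2.choose_spec
      have key : (act h c).2.choose v = (h.1 * c.2.choose) v := by
        rw [ha.2, LinearEquiv.mul_apply, hb.2]
      show (act h c).2.choose w = h.1 (c.2.choose w)
      have h5 := hw ((act h c).2.choose⁻¹ * (h.1 * c.2.choose))
        (mul_mem (inv_mem ha.1) (mul_mem h.2 hb.1))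
        (by
          rw [LinearEquiv.mul_apply, ← key]
          exact (act h c).2.choose.symm_apply_apply v)
      have h6 := congrArg (act h c).2.choose h5
      rw [LinearEquiv.mul_apply] at h6
      exact h6.symm.trans ((act h c).2.choose.apply_symm_apply _)
    have hTw := T_equiv ψ hψ
    refine ⟨T ψ ∘ₗ σ, fun h hh x => ?_, ?_⟩
    · rw [LinearMap.comp_apply, LinearMap.comp_apply, hσ ⟨h, hh⟩, hTw]
    · have h2 := hcommA (σ ∘ₗ T ψ) (σ ∘ₗ LinearMap.id ∘ₗ Tv)
        (fun h g => by rw [LinearMap.comp_apply, LinearMap.comp_apply, hTw, hσ])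
        (hlift _ hid) (Pi.single c₀ 1)
      simp only [LinearMap.comp_apply, LinearMap.id_apply] at h2
      have h3 := congrArg Tv h2
      rw [hσT, hσT, hσT, T_single] at h3
      rw [LinearMap.comp_apply]
      refine (h3.trans (T_single ψ c₀)).trans ?_
      exact hw _ c₀.2.choose_spec.1 c₀.2.choose_spec.2

end Cfsg.Agent.BinaryAffine
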