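import Mathlib.LinearAlgebra.Dimension.Finite
import Mathlib.GroupTheory.GroupAction.Quotient
import Mathlib.GroupTheory.PGroup
import Mathlib.GroupTheory.Perm.Cycle.Type
import Cfsg.Agent.Invol.BaerSuzuki
import Cfsg.Agent.BinaryAffine.Orbit

/-!
Binary linear groups in characteristic two: translations, the key disjointness lemma, inversion,
and the consequences of irreducibility.
-/

set_option autoImplicit false

namespace Cfsg.Agent.BinaryAffine

variable {V : Type} [AddCommGroup V] [Module (ZMod 2) V]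

theorem add_self_two (x : V) : x + x = 0 := ZModModule.add_self x

theorem sub_two (x y : V) : x - y = x + y := ZModModule.sub_eq_add x y

theorem eq_of_add_eq_zero_two {x y : V} (h : x + y = 0) : x = y := by
  rw [← sub_two] at h
  exact sub_eq_zero.1 h

theorem mem_im_two {h : V ≃ₗ[ZMod 2] V} {z : V} : z ∈ Im h ↔ ∃ x, h x = x + z := by
  rw [mem_im]
  refine exists_congr fun x => ⟨fun hx => ?_, fun hx => ?_⟩
  · rw [← hx]; abel
  · rw [hx]; abel

theorem im_le_fx_of_sq {u : V ≃ₗ[ZMod 2] V} (hu : u * u = 1) : Im u ≤ Fx u := by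
  intro z hz
  obtain ⟨x, rfl⟩ := mem_im.1 hz
  rw [mem_fx, map_sub, ← LinearEquiv.mul_apply, hu, LinearEquiv.coe_one, id_eq, sub_two, sub_two,
    add_comm]

section

variable {H : Subgroup (V ≃ₗ[ZMod 2] V)} (hbin : Bin H)
include hbin

/-- One element translates by `z` every vector which is equivalent to its translate by `z`. -/
theorem exists_translation [Finite V] (z : V) :
    ∃ g ∈ H, g z = z ∧ ∀ x, (∃ h ∈ H, h x = x + z) → g x = x + z := by
  classical
  let M := {x : V // ∃ h ∈ H, h x = x + z}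
  let a : Option M → V := fun o => o.elim z Subtype.val
  let b : Option M → V := fun o => o.elim z fun x => x.1 + z
  have hpt : ∀ o, ∃ h ∈ H, h (a o) = b o := by
    rintro (_ | ⟨x, hx⟩)
    · exact ⟨1, one_mem H, rfl⟩
    · exact hx
  have hdiff : ∀ o o', ∃ h ∈ H, h (a o - a o') = b o - b o' := by
    rintro (_ | ⟨x, h, hh, hhx⟩) (_ | ⟨y, k, hk, hky⟩)
    · exact ⟨1, one_mem H, rfl⟩
    · refine ⟨k⁻¹, inv_mem hk, ?_⟩
      show k⁻¹ (z - y) = z - (y + z)
      rw [show z - (y + z) = -y by abel, ZModModule.neg_eq_self]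
      apply k.injective
      rw [show k (k⁻¹ (z - y)) = z - y from k.apply_symm_apply _, hky, sub_two, add_comm]
    · refine ⟨h⁻¹, inv_mem hh, ?_⟩
      show h⁻¹ (x - z) = x + z - z
      rw [add_sub_cancel_right]
      apply h.injective
      rw [show h (h⁻¹ (x - z)) = x - z from h.apply_symm_apply _, hhx, sub_two]
    · exact ⟨1, one_mem H, by show x - y = x + z - (y + z); abel⟩
  obtain ⟨g, hg, hgi⟩ := hbin (Option M) a b hpt hdiff
  exact ⟨g, hg, hgi none, fun x hx => hgi (some ⟨x, hx⟩)⟩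

/-- No element of `H` moves a vector fixed by `h` by a non-zero vector of `(h - 1) V`. -/
theorem eq_of_mem_fx_of_mem_im [Finite V] {h h' : V ≃ₗ[ZMod 2] V} (hh : h ∈ H) (hh' : h' ∈ H)
    {y : V} (hy : y ∈ Fx h) (hyi : h' y - y ∈ Im h) : h' y = y := by
  set z := h' y - y with hz
  obtain ⟨x, hx⟩ := mem_im_two.1 hyi
  obtain ⟨g, -, -, hg⟩ := exists_translation hbin z
  have h1 := hg x ⟨h, hh, hx⟩
  have h2 := hg y ⟨h', hh', by rw [hz]; abel⟩
  have h3 := hg (x + y) ⟨h, hh, by rw [map_add, hx, mem_fx.1 hy]; abel⟩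
  rw [map_add, h1, h2, show x + z + (y + z) = x + y + (z + z) by abel, add_self_two, add_zero,
    left_eq_add] at h3
  exact sub_eq_zero.1 h3

/-- An element fixing `v` and all fixed vectors of `k` reverses `k⁻¹ v, v, k v`. -/
theorem exists_invert [Finite V] {k : V ≃ₗ[ZMod 2] V} (hk : k ∈ H) (v : V) :
    ∃ g ∈ H, Fx k ≤ Fx g ∧ g v = v ∧ g (k v) = k⁻¹ v ∧ g (k⁻¹ v) = k v := by
  classical
  let J := ↥({-1, 0, 1} : Finset ℤ)
  have : Finite J := inferInstanceAs (Finite ↥({-1, 0, 1} : Finset ℤ))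
  let a : Fx k ⊕ J → V := Sum.elim Subtype.val fun i => (k ^ i.1) v
  let b : Fx k ⊕ J → V := Sum.elim Subtype.val fun i => (k ^ (-i.1)) v
  have hpt : ∀ i, ∃ h ∈ H, h (a i) = b i := by
    rintro (t | i)
    · exact ⟨1, one_mem H, rfl⟩
    · refine ⟨k ^ (-i.1 + -i.1), zpow_mem hk _, ?_⟩
      show (k ^ (-i.1 + -i.1)) ((k ^ i.1) v) = (k ^ (-i.1)) v
      rw [← LinearEquiv.mul_apply, ← zpow_add, show -i.1 + -i.1 + i.1 = -i.1 by omega]
  have hdiff : ∀ i j, ∃ h ∈ H, h (a i - a j) = b i - b j := by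
    rintro (t | i) (s | j)
    · exact ⟨1, one_mem H, rfl⟩
    · refine ⟨k ^ (-j.1 + -j.1), zpow_mem hk _, ?_⟩
      show (k ^ (-j.1 + -j.1)) (t.1 - (k ^ j.1) v) = t.1 - (k ^ (-j.1)) v
      rw [map_sub, mem_fx.1 (fx_le_zpow k _ t.2), ← LinearEquiv.mul_apply, ← zpow_add,
        show -j.1 + -j.1 + j.1 = -j.1 by omega]
    · refine ⟨k ^ (-i.1 + -i.1), zpow_mem hk _, ?_⟩
      show (k ^ (-i.1 + -i.1)) ((k ^ i.1) v - s.1) = (k ^ (-i.1)) v - s.1
      rw [map_sub, mem_fx.1 (fx_le_zpow k _ s.2), ← LinearEquiv.mul_apply, ← zpow_add,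
        show -i.1 + -i.1 + i.1 = -i.1 by omega]
    · refine ⟨k ^ (-i.1 + -j.1), zpow_mem hk _, ?_⟩
      show (k ^ (-i.1 + -j.1)) ((k ^ i.1) v - (k ^ j.1) v) = (k ^ (-i.1)) v - (k ^ (-j.1)) v
      rw [map_sub, ← LinearEquiv.mul_apply, ← LinearEquiv.mul_apply, ← zpow_add, ← zpow_add,
        show -i.1 + -j.1 + i.1 = -j.1 by omega, show -i.1 + -j.1 + j.1 = -i.1 by omega,
        sub_two, sub_two, add_comm]
  obtain ⟨g, hg, hgi⟩ := hbin (Fx k ⊕ J) a b hpt hdiff
  refine ⟨g, hg, fun t ht => mem_fx.2 (hgi (Sum.inl ⟨t, ht⟩)), ?_, ?_, ?_⟩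
  · have := hgi (Sum.inr ⟨0, by simp⟩)
    simp only [a, b, Sum.elim_inr, neg_zero, zpow_zero] at this
    exact this
  · have := hgi (Sum.inr ⟨1, by simp⟩)
    simp only [a, b, Sum.elim_inr, zpow_one, zpow_neg] at this
    exact this
  · have := hgi (Sum.inr ⟨-1, by simp⟩)
    simp only [a, b, Sum.elim_inr, neg_neg, zpow_one, zpow_neg] at this
    exact this

end

/-- An element of odd order decomposes the space as fixed space plus commutator space. -/
theorem isCompl_fx_im {k : V ≃ₗ[ZMod 2] V} (hk : Odd (orderOf k)) : IsCompl (Fx k) (Im k) := by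
  set r := orderOf k
  let P : V → V := fun x => ∑ i ∈ Finset.range r, (k ^ i) x
  have hr : ((r : ℕ) : ZMod 2) = 1 := (ZMod.natCast_eq_one_iff_odd).2 hk
  have hsum : ∀ x : V, (r : ℕ) • x = x := fun x => by
    rw [← Nat.cast_smul_eq_nsmul (ZMod 2), hr, one_smul]
  constructor
  · rw [Submodule.disjoint_def]
    intro x hx hxi
    obtain ⟨y, hy⟩ := mem_im.1 hxi
    have h1 : P x = x := by
      show (∑ i ∈ Finset.range r, (k ^ i) x) = x
      rw [Finset.sum_congr rfl fun i _ => mem_fx.1 (fx_le_pow k i hx), Finset.sum_const,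
        Finset.card_range, hsum]
    have h2 : P x = 0 := by
      show (∑ i ∈ Finset.range r, (k ^ i) x) = 0
      rw [← hy]
      have : ∀ i, (k ^ i) (k y - y) = (k ^ (i + 1)) y - (k ^ i) y := fun i => by
        rw [map_sub, pow_succ, LinearEquiv.mul_apply]
      rw [Finset.sum_congr rfl fun i _ => this i,
        Finset.sum_range_sub (fun i => (k ^ i) y), pow_orderOf_eq_one, pow_zero, sub_self]
    rw [← h1, h2]
  · rw [codisjoint_iff, eq_top_iff]
    intro x _
    have h1 : P x ∈ Fx k := by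
      rw [mem_fx, map_sum]
      have h3 : ∀ i ∈ Finset.range r, k ((k ^ i) x) = (k ^ (i + 1)) x := fun i _ => by
        rw [pow_succ', LinearEquiv.mul_apply]
      rw [Finset.sum_congr rfl h3]
      have h4 := Finset.sum_range_succ' (fun i => (k ^ i) x) r
      rw [Finset.sum_range_succ, pow_orderOf_eq_one, pow_zero] at h4
      exact (add_right_cancel h4).symm
    have h2 : x + P x ∈ Im k := by
      have h5 : ∀ i, (k ^ i) x - x ∈ Im k := by
        intro i
        induction i with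
        | zero => rw [pow_zero, LinearEquiv.coe_one, id_eq, sub_self]; exact zero_mem _
        | succ i ih =>
          have := add_mem (sub_mem_im k ((k ^ i) x)) ih
          rwa [sub_add_sub_cancel, ← LinearEquiv.mul_apply, ← pow_succ'] at this
      have h6 : ∑ i ∈ Finset.range r, ((k ^ i) x - x) ∈ Im k := sum_mem fun i _ => h5 i
      rw [Finset.sum_sub_distrib, Finset.sum_const, Finset.card_range, hsum, sub_two,
        add_comm] at h6
      exact h6
    have h7 := Submodule.add_mem_sup h1 h2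
    rwa [show P x + (x + P x) = x + (P x + P x) by abel, add_self_two, add_zero] at h7

theorem conj_inv_apply (g h : V ≃ₗ[ZMod 2] V) (x : V) : (g * h * g⁻¹) (g x) = g (h x) := by
  rw [LinearEquiv.mul_apply, LinearEquiv.mul_apply, show g⁻¹ (g x) = x from g.symm_apply_apply x]

section

variable [Finite V] {H : Subgroup (V ≃ₗ[ZMod 2] V)} (hirr : Irr H)
include hirr

/-- An irreducible group has no non-trivial normal `2`-subgroup. -/
theorem eq_one_of_mem_normal_two {N : Subgroup H} (hN : N.Normal) (hN2 : IsPGroup 2 N)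
    {x : H} (hx : x ∈ N) : x = 1 := by
  by_contra hne
  have hne' : (x : V ≃ₗ[ZMod 2] V) ≠ 1 := fun h => hne (Subtype.ext h)
  have hV : Nontrivial V := by
    by_contra hV
    rw [not_nontrivial_iff_subsingleton] at hV
    exact hne' (LinearEquiv.ext fun _ => Subsingleton.elim _ _)
  let U : Submodule (ZMod 2) V := ⨅ n : N, Fx (n.1.1)
  have hinvU : ∀ h ∈ H, ∀ v ∈ U, h v ∈ U := by
    intro h hh v hv
    rw [Submodule.mem_iInf] at hv ⊢
    intro n
    have h1 := mem_fx.1 (hv ⟨_, hN.conj_mem _ n.2 ⟨h, hh⟩⁻¹⟩)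
    rw [mem_fx]
    apply (h⁻¹).injective
    simp only [Subgroup.coe_mul, Subgroup.coe_inv, inv_inv, LinearEquiv.mul_apply] at h1
    exact h1.trans (h.symm_apply_apply v).symm
  rcases hirr U hinvU with h0 | h1
  · let : MulAction N V := MulAction.compHom V ((Subgroup.subtype H).comp (Subgroup.subtype N))
    have hsmul : ∀ (n : N) (v : V), n • v = n.1.1 v := fun n v => rfl
    have hdvd : 2 ∣ Nat.card V := by
      rw [Module.natCard_eq_pow_finrank (K := ZMod 2), Nat.card_zmod]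
      exact dvd_pow_self 2 Module.finrank_pos.ne'
    obtain ⟨b, hb, hb0⟩ := hN2.exists_fixed_point_of_prime_dvd_card_of_fixed_point V hdvd
      (a := (0 : V)) fun n => (hsmul n 0).trans (map_zero _)
    have : b ∈ U := Submodule.mem_iInf _ |>.2 fun n => mem_fx.2 ((hsmul n b).symm.trans (hb n))
    rw [h0] at this
    exact hb0 ((Submodule.mem_bot _).1 this).symm
  · apply hne'
    refine fx_eq_top_iff.1 (top_unique ?_)
    rw [← h1]
    exact iInf_le (fun n : N => Fx (n.1.1)) ⟨x, hx⟩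

/-- An involution inverts a non-trivial element of odd order lying in a dihedral group generated
by two conjugates of it. -/
theorem exists_dihedral {u : V ≃ₗ[ZMod 2] V} (hu : u ∈ H) (huo : orderOf u = 2) :
    ∃ g ∈ H, ∃ k ∈ H, k ≠ 1 ∧ Odd (orderOf k) ∧ Fx u ⊓ Fx (g * u * g⁻¹) ≤ Fx k := by
  have : Fact (Nat.Prime 2) := ⟨Nat.prime_two⟩
  obtain ⟨g, k, hk1, hko, -, hkz⟩ := Invol.exists_inverted_odd (t := (⟨u, hu⟩ : H))
    (by rw [← Subgroup.orderOf_coe]; exact huo) fun N hN hN2 hmem => by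
      have h1 := congrArg (fun a : H => (a : V ≃ₗ[ZMod 2] V))
        (eq_one_of_mem_normal_two hirr hN hN2 hmem)
      simp only [Subgroup.coe_one] at h1
      rw [h1, orderOf_one] at huo
      omega
  refine ⟨g, g.2, k, k.2, fun h => hk1 (Subtype.ext h), by rwa [Subgroup.orderOf_coe], ?_⟩
  obtain ⟨i, hi⟩ := Subgroup.mem_zpowers_iff.1 hkz
  have hk' : (k : V ≃ₗ[ZMod 2] V) = (u * (g.1 * u * g.1⁻¹)) ^ i := by
    rw [← hi, SubgroupClass.coe_zpow]
    rfl
  rw [hk']
  exact (fx_inf_le_mul u (g.1 * u * g.1⁻¹)).trans (fx_le_zpow _ i)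

end

end Cfsg.Agent.BinaryAffine
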