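import Mathlib.GroupTheory.Transfer
import Cfsg.Agent.BinaryAffine.TwoBasic

/-!
Blocks of a binary irreducible linear group in characteristic two: if `k` has odd order and the
smallest possible commutator space `W`, then the pointwise stabiliser of its fixed space `F` is
dihedral of order `2 (q + 1)` acting irreducibly on `W`, where `#W = q²`.
-/

set_option autoImplicit false

namespace Cfsg.Agent.BinaryAffine

variable {V : Type} [AddCommGroup V] [Module (ZMod 2) V]

/-- The dimension of the commutator space. -/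
noncomputable def codimFix (h : V ≃ₗ[ZMod 2] V) : ℕ := Module.finrank (ZMod 2) (Im h)

/-- An element of odd order with smallest commutator space. -/
structure IsBlock (H : Subgroup (V ≃ₗ[ZMod 2] V)) (k : V ≃ₗ[ZMod 2] V) : Prop where
  mem : k ∈ H
  ne_one : k ≠ 1
  odd : Odd (orderOf k)
  min : ∀ k' ∈ H, k' ≠ 1 → Odd (orderOf k') → codimFix k ≤ codimFix k'

/-- The pointwise stabiliser of the fixed space of `k`. -/
def stabF (H : Subgroup (V ≃ₗ[ZMod 2] V)) (k : V ≃ₗ[ZMod 2] V) :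
    Subgroup (V ≃ₗ[ZMod 2] V) where
  carrier := {h | h ∈ H ∧ Fx k ≤ Fx h}
  one_mem' := ⟨one_mem H, fun x _ => mem_fx.2 rfl⟩
  mul_mem' {a b} ha hb := ⟨mul_mem ha.1 hb.1, (le_inf ha.2 hb.2).trans (fx_inf_le_mul a b)⟩
  inv_mem' {a} ha := ⟨inv_mem ha.1, by rw [fx_inv]; exact ha.2⟩

theorem mem_stabF {H : Subgroup (V ≃ₗ[ZMod 2] V)} {k h : V ≃ₗ[ZMod 2] V} :
    h ∈ stabF H k ↔ h ∈ H ∧ Fx k ≤ Fx h := Iff.rfl

variable [Finite V]

theorem codimFix_add (h : V ≃ₗ[ZMod 2] V) :
    codimFix h + Module.finrank (ZMod 2) (Fx h) = Module.finrank (ZMod 2) V :=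
  finrank_im_add_fx h

theorem fx_eq_of_le {g h : V ≃ₗ[ZMod 2] V} (hle : Fx g ≤ Fx h)
    (hc : codimFix g ≤ codimFix h) : Fx g = Fx h := by
  refine Submodule.eq_of_le_of_finrank_le hle ?_
  have h1 := codimFix_add g
  have h2 := codimFix_add h
  omega

theorem codimFix_pos {h : V ≃ₗ[ZMod 2] V} (hne : h ≠ 1) : 0 < codimFix h := by
  rw [codimFix, Nat.pos_iff_ne_zero]
  exact fun h0 => hne (im_eq_bot_iff.1 (Submodule.finrank_eq_zero.1 h0))

omit [Finite V] in
theorem codimFix_conj (g h : V ≃ₗ[ZMod 2] V) : codimFix (g * h * g⁻¹) = codimFix h := by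
  rw [codimFix, codimFix, ← map_im]
  exact (Submodule.equivMapOfInjective g.toLinearMap g.injective (Im h)).finrank_eq.symm

theorem finrank_le_of_inf (A B : Submodule (ZMod 2) V) :
    Module.finrank (ZMod 2) A + Module.finrank (ZMod 2) B ≤
      Module.finrank (ZMod 2) V + Module.finrank (ZMod 2) (A ⊓ B : Submodule (ZMod 2) V) := by
  rw [← Submodule.finrank_sup_add_finrank_inf_eq A B]
  exact Nat.add_le_add_right (Submodule.finrank_le _) _

omit [Finite V] in
theorem sq_eq_one_of_orderOf_eq_two {u : V ≃ₗ[ZMod 2] V} (h : orderOf u = 2) : u * u = 1 := by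
  rw [← pow_two]
  exact orderOf_dvd_iff_pow_eq_one.1 (dvd_of_eq h)

omit [Finite V] in
theorem orderOf_eq_two_of_sq {u : V ≃ₗ[ZMod 2] V} (h : u * u = 1) (hne : u ≠ 1) :
    orderOf u = 2 := orderOf_eq_prime (by rw [pow_two, h]) hne

omit [Finite V] in
theorem commute_of_sq {a b : V ≃ₗ[ZMod 2] V} (ha : a * a = 1) (hb : b * b = 1)
    (hab : a * b * (a * b) = 1) : a * b = b * a := by
  calc a * b = (a * b * (a * b)) * (b * a) := by
        rw [mul_assoc, mul_assoc a b (b * a), ← mul_assoc b b a, hb, one_mul, ha, mul_one]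
    _ = b * a := by rw [hab, one_mul]

omit [Finite V] in
theorem mul_sq_of_commute {a b : V ≃ₗ[ZMod 2] V} (ha : a * a = 1) (hb : b * b = 1)
    (hab : a * b = b * a) : a * b * (a * b) = 1 := by
  conv_lhs => arg 2; rw [hab]
  rw [mul_assoc, ← mul_assoc b b a, hb, one_mul, ha]

omit [Finite V] in
theorem inv_eq_of_sq {u : V ≃ₗ[ZMod 2] V} (h : u * u = 1) : u⁻¹ = u := inv_eq_of_mul_eq_one_right h

variable {H : Subgroup (V ≃ₗ[ZMod 2] V)} (hbin : Bin H) (hirr : Irr H)
include hirr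

/-- The smallest commutator space of an involution has at least half the smallest dimension. -/
theorem IsBlock.le_two_mul {k u : V ≃ₗ[ZMod 2] V} (hk : IsBlock H k) (hu : u ∈ H)
    (hu2 : u * u = 1) (hne : u ≠ 1) : codimFix k ≤ 2 * codimFix u := by
  obtain ⟨g, -, k', hk', hk1, hko, hle⟩ :=
    exists_dihedral hirr hu (orderOf_eq_two_of_sq hu2 hne)
  have h1 := hk.min k' hk' hk1 hko
  have h2 := finrank_le_of_inf (Fx u) (Fx (g * u * g⁻¹))
  have h3 := Submodule.finrank_mono hle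
  have h4 := codimFix_add u
  have h5 := codimFix_add (g * u * g⁻¹)
  have h6 := codimFix_add k'
  rw [codimFix_conj] at h5
  omega

omit hirr in
/-- Non-trivial elements of odd order in the stabiliser fix exactly the fixed space of `k`. -/
theorem IsBlock.odd_fx {k s : V ≃ₗ[ZMod 2] V} (hk : IsBlock H k) (hs : s ∈ stabF H k)
    (hne : s ≠ 1) (hso : Odd (orderOf s)) : Fx s = Fx k :=
  (fx_eq_of_le hs.2 (hk.min s hs.1 hne hso)).symm

include hbin

omit hirr in
/-- The commutator space of an element of the stabiliser avoids the fixed space of `k`. -/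
theorem IsBlock.im_inf_fx {k s : V ≃ₗ[ZMod 2] V} (hk : IsBlock H k) (hs : s ∈ stabF H k) :
    Im s ⊓ Fx k = ⊥ := by
  rw [eq_bot_iff]
  intro z hz
  obtain ⟨hz1, hz2⟩ := Submodule.mem_inf.1 hz
  rw [Submodule.mem_bot]
  obtain ⟨x, hx⟩ := mem_im_two.1 hz1
  have hc := isCompl_fx_im hk.odd
  obtain ⟨f, hf, w, hw, rfl⟩ :=
    Submodule.mem_sup.1 (hc.sup_eq_top ▸ Submodule.mem_top : x ∈ Fx k ⊔ Im k)
  rw [map_add, mem_fx.1 (hs.2 hf), add_assoc, add_right_inj] at hx
  obtain ⟨g, -, hgz, hg⟩ := exists_translation hbin z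
  have hi : ∀ i : ℕ, g ((k ^ i) w) = (k ^ i) w + z := fun i => by
    refine hg _ ⟨k ^ i * s * (k ^ i)⁻¹,
      mul_mem (mul_mem (pow_mem hk.mem i) hs.1) (inv_mem (pow_mem hk.mem i)), ?_⟩
    rw [conj_inv_apply, hx, map_add, mem_fx.1 (fx_le_pow k i hz2)]
  have hsum : (∑ i ∈ Finset.range (orderOf k), (k ^ i) w) = 0 := by
    obtain ⟨y, hy⟩ := mem_im.1 hw
    have : ∀ i, (k ^ i) w = (k ^ (i + 1)) y - (k ^ i) y := fun i => by
      rw [← hy, map_sub, pow_succ, LinearEquiv.mul_apply]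
    rw [Finset.sum_congr rfl fun i _ => this i, Finset.sum_range_sub (fun i => (k ^ i) y),
      pow_orderOf_eq_one, pow_zero, sub_self]
  have h2 := congrArg g hsum
  rw [map_sum, map_zero, Finset.sum_congr rfl fun i _ => hi i, Finset.sum_add_distrib, hsum,
    zero_add, Finset.sum_const, Finset.card_range, ← Nat.cast_smul_eq_nsmul (ZMod 2),
    ZMod.natCast_eq_one_iff_odd.2 hk.odd, one_smul] at h2
  exact h2

/-- Involutions of the stabiliser have commutator space of half the dimension. -/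
theorem IsBlock.invol_spec {k u : V ≃ₗ[ZMod 2] V} (hk : IsBlock H k) (hu : u ∈ stabF H k)
    (hu2 : u * u = 1) (hne : u ≠ 1) :
    2 * codimFix u = codimFix k ∧ Fx u = Fx k ⊔ Im u := by
  have h1 := hk.le_two_mul hirr hu.1 hu2 hne
  have h2 : Module.finrank (ZMod 2) (Fx k ⊔ Im u : Submodule (ZMod 2) V) =
      Module.finrank (ZMod 2) (Fx k) + codimFix u := by
    have := Submodule.finrank_sup_add_finrank_inf_eq (Fx k) (Im u)
    rw [inf_comm, hk.im_inf_fx hbin hu, finrank_bot, add_zero] at this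
    exact this
  have h3 : Fx k ⊔ Im u ≤ Fx u := sup_le hu.2 (im_le_fx_of_sq hu2)
  have h4 := Submodule.finrank_mono h3
  have h5 := codimFix_add k
  have h6 := codimFix_add u
  exact ⟨by omega, (Submodule.eq_of_le_of_finrank_le h3 (by omega)).symm⟩

omit hirr in
/-- The stabiliser contains an involution. -/
theorem IsBlock.exists_invol {k : V ≃ₗ[ZMod 2] V} (hk : IsBlock H k) :
    ∃ u ∈ stabF H k, u * u = 1 ∧ u ≠ 1 := by
  obtain ⟨w, hw⟩ : ∃ w, k w ≠ w := by
    by_contra hcon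
    push Not at hcon
    exact hk.ne_one (LinearEquiv.ext hcon)
  obtain ⟨g, hg, hgF, -, hg1, hg2⟩ := exists_invert hbin hk.mem w
  obtain ⟨a, b, hb, hab⟩ := Nat.exists_eq_pow_mul_and_not_dvd (orderOf_pos g).ne' 2 (by decide)
  have ha : a ≠ 0 := by
    intro h0
    rw [h0, pow_zero, one_mul] at hab
    have h1 : (g ^ 2) (k w) = k w := by
      rw [pow_two, LinearEquiv.mul_apply, hg1, hg2]
    have h2 : g (k w) = k w := by
      obtain ⟨c, hc⟩ : Odd (orderOf g) := by rw [hab]; exact Nat.odd_iff.2 (by omega)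
      have h3 : (g ^ 2) ^ (c + 1) = g := by
        rw [← pow_mul, show 2 * (c + 1) = orderOf g + 1 by omega, pow_succ, pow_orderOf_eq_one,
          one_mul]
      have h4 := mem_fx.1 (fx_le_pow (g ^ 2) (c + 1) (mem_fx.2 h1))
      rwa [h3] at h4
    rw [hg1] at h2
    apply hw
    obtain ⟨c, hc⟩ := hk.odd
    have h5 : (k ^ 2) w = w := by
      have := congrArg k h2
      rw [show k (k⁻¹ w) = w from k.apply_symm_apply w] at this
      rw [pow_two, LinearEquiv.mul_apply, ← this]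
    have h6 : (k ^ 2) ^ (c + 1) = k := by
      rw [← pow_mul, show 2 * (c + 1) = orderOf k + 1 by omega, pow_succ, pow_orderOf_eq_one,
        one_mul]
    have h7 := mem_fx.1 (fx_le_pow (k ^ 2) (c + 1) (mem_fx.2 h5))
    rwa [h6] at h7
  have hd : orderOf (g ^ (orderOf g / 2)) = 2 := by
    have h2 : 2 ∣ orderOf g := by
      rw [hab]
      exact Dvd.dvd.mul_right (dvd_pow_self 2 ha) b
    exact orderOf_pow_orderOf_div (orderOf_pos g).ne' h2
  refine ⟨g ^ (orderOf g / 2), ⟨pow_mem hg _, hgF.trans (fx_le_pow g _)⟩,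
    sq_eq_one_of_orderOf_eq_two hd, fun h1 => ?_⟩
  rw [h1, orderOf_one] at hd
  omega

/-- Commuting involutions of the stabiliser have the same fixed space. -/
theorem IsBlock.fx_eq_of_commute {k u u' : V ≃ₗ[ZMod 2] V} (hk : IsBlock H k)
    (hu : u ∈ stabF H k) (hu2 : u * u = 1) (hne : u ≠ 1) (hu' : u' ∈ stabF H k)
    (hu'2 : u' * u' = 1) (hne' : u' ≠ 1) (hc : u * u' = u' * u) : Fx u = Fx u' := by
  obtain ⟨h1, h2⟩ := hk.invol_spec hbin hirr hu hu2 hne
  obtain ⟨h3, -⟩ := hk.invol_spec hbin hirr hu' hu'2 hne'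
  refine fx_eq_of_le ?_ (by omega)
  rw [h2]
  refine sup_le hu'.2 fun y hy => ?_
  rw [mem_fx]
  refine eq_of_mem_fx_of_mem_im hbin hu.1 hu'.1 (im_le_fx_of_sq hu2 hy) ?_
  refine sub_mem ?_ hy
  have hconj : u' * u * u'⁻¹ = u := by rw [← hc, mul_inv_cancel_right]
  have := map_im u' u
  rw [hconj] at this
  rw [← this]
  exact Submodule.mem_map_of_mem hy

omit hbin hirr in
/-- An element of the stabiliser fixing a vector outside the fixed space has `2`-power order. -/
theorem IsBlock.exists_pow_two {k s : V ≃ₗ[ZMod 2] V} (hk : IsBlock H k) (hs : s ∈ stabF H k)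
    {x : V} (hx : x ∉ Fx k) (hsx : s x = x) : ∃ a : ℕ, orderOf s = 2 ^ a := by
  obtain ⟨a, b, hb, hab⟩ := Nat.exists_eq_pow_mul_and_not_dvd (orderOf_pos s).ne' 2 (by decide)
  refine ⟨a, ?_⟩
  have ho : orderOf (s ^ 2 ^ a) = b := by
    rw [orderOf_pow_of_dvd (by positivity) ⟨b, hab⟩, hab,
      Nat.mul_div_cancel_left _ (by positivity)]
  by_cases h1 : s ^ 2 ^ a = 1
  · rw [h1, orderOf_one] at ho
    rw [hab, ← ho, mul_one]
  · exfalso
    apply hx
    rw [← hk.odd_fx (pow_mem hs _) h1 (by rw [ho]; exact Nat.odd_iff.2 (by omega))]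
    exact fx_le_pow s _ (mem_fx.2 hsx)

/-- Elements of `2`-power order in the stabiliser square to one. -/
theorem IsBlock.sq_of_two_power {k s : V ≃ₗ[ZMod 2] V} (hk : IsBlock H k) (hs : s ∈ stabF H k)
    {a : ℕ} (ha : orderOf s = 2 ^ a) : s * s = 1 := by
  by_contra hcon
  obtain ⟨b, rfl⟩ : ∃ b, a = b + 2 := by
    refine ⟨a - 2, ?_⟩
    rcases a with _ | _ | a
    · exact absurd (by rw [orderOf_eq_one_iff.1 ha, one_mul]) hcon
    · exact absurd (sq_eq_one_of_orderOf_eq_two ha) hcon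
    · omega
  set j := s ^ 2 ^ b with hj
  have hjo : orderOf j = 4 := by
    rw [hj, orderOf_pow_of_dvd (by positivity) ⟨4, by rw [ha, pow_add]; rfl⟩, ha,
      Nat.pow_div (by omega) (by norm_num), show b + 2 - b = 2 by omega]
  have hjS : j ∈ stabF H k := pow_mem hs _
  set u := j * j with hu
  have hu2 : u * u = 1 := by
    rw [hu, show j * j * (j * j) = j ^ 4 by
      rw [show j * j = j ^ 2 from (pow_two j).symm, ← pow_add], ← hjo, pow_orderOf_eq_one]
  have hune : u ≠ 1 := fun h1 => by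
    have h2 := orderOf_dvd_of_pow_eq_one (show j ^ 2 = 1 by rw [pow_two]; exact h1)
    rw [hjo] at h2
    norm_num at h2
  have huS : u ∈ stabF H k := mul_mem hjS hjS
  obtain ⟨-, hfu⟩ := hk.invol_spec hbin hirr huS hu2 hune
  have hju : Fx u ≤ Fx j := by
    rw [hfu]
    refine sup_le hjS.2 fun y hy => ?_
    rw [mem_fx]
    refine eq_of_mem_fx_of_mem_im hbin huS.1 hjS.1 (im_le_fx_of_sq hu2 hy) (sub_mem ?_ hy)
    have hconj : j * u * j⁻¹ = u := by rw [hu]; group
    have := map_im j u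
    rw [hconj] at this
    rw [← this]
    exact Submodule.mem_map_of_mem hy
  apply hune
  refine LinearEquiv.ext fun x => ?_
  set y := j x - x with hy
  have huy : u y = y := by
    have hz : u x - x ∈ Fx u := im_le_fx_of_sq hu2 (sub_mem_im u x)
    have h1 := mem_fx.1 (hju hz)
    rw [map_sub, show j (u x) = u (j x) by
      rw [← LinearEquiv.mul_apply, ← LinearEquiv.mul_apply, hu, mul_assoc]] at h1
    rw [hy, map_sub]
    rw [sub_two, sub_two] at h1 ⊢
    exact eq_of_add_eq_zero_two (by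
      rw [show u (j x) + u x + (j x + x) = (u (j x) + j x) + (u x + x) by abel, h1,
        add_self_two])
  have h2 := mem_fx.1 (hju (mem_fx.2 huy))
  have hjx : j x = x + y := by rw [hy]; abel
  rw [hu, LinearEquiv.mul_apply, hjx, map_add, hjx, h2, add_assoc, add_self_two, add_zero]
  rfl

/-- The structure of the stabiliser around one of its involutions. -/
theorem IsBlock.structure_stab {k u : V ≃ₗ[ZMod 2] V} (hk : IsBlock H k) (hu : u ∈ stabF H k)
    (hu2 : u * u = 1) (hne : u ≠ 1) :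
    ∃ O : Subgroup (V ≃ₗ[ZMod 2] V), O ≤ stabF H k ∧
      (∀ o ∈ O, Odd (orderOf o) ∧ u * o * u = o⁻¹) ∧
      (∀ s ∈ stabF H k, Odd (orderOf s) → s ∈ O) ∧
      (∀ s ∈ stabF H k, s ∈ O ∨ s * u ∈ O) ∧
      (∀ h ∈ stabF H k, Fx u ≤ Fx h → h = 1 ∨ h = u) := by
  classical
  have hfact : Fact (Nat.Prime 2) := ⟨Nat.prime_two⟩
  obtain ⟨-, hfu⟩ := hk.invol_spec hbin hirr hu hu2 hne
  obtain ⟨x₀, hx₀, hx₀0⟩ : ∃ x ∈ Im u, x ≠ 0 :=
    Submodule.exists_mem_ne_zero_of_ne_bot fun h => hne (im_eq_bot_iff.1 h)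
  have hx₀F : x₀ ∉ Fx k := fun h => hx₀0 (by
    have h1 : x₀ ∈ Im u ⊓ Fx k := Submodule.mem_inf.2 ⟨hx₀, h⟩
    rw [hk.im_inf_fx hbin hu] at h1
    exact h1)
  have hux₀ : u x₀ = x₀ := mem_fx.1 (im_le_fx_of_sq hu2 hx₀)
  have hsq : ∀ s ∈ stabF H k, s x₀ = x₀ → s * s = 1 := fun s hs hsx => by
    obtain ⟨a, ha⟩ := hk.exists_pow_two hs hx₀F hsx
    exact hk.sq_of_two_power hbin hirr hs ha
  have hcomm : ∀ s ∈ stabF H k, s x₀ = x₀ → s * u = u * s := fun s hs hsx =>
    commute_of_sq (hsq s hs hsx) hu2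
      (hsq _ (mul_mem hs hu) (by rw [LinearEquiv.mul_apply, hux₀, hsx]))
  have hfxE : ∀ s ∈ stabF H k, s * u = u * s → s * s = 1 → Fx u ≤ Fx s := by
    intro s hs hsu hs2
    by_cases h1 : s = 1
    · rw [h1, fx_eq_top_iff.2 rfl]; exact le_top
    · exact (hk.fx_eq_of_commute hbin hirr hu hu2 hne hs hs2 h1 hsu.symm).le
  let E : Subgroup (stabF H k) :=
    { carrier := {s | Fx u ≤ Fx s.1}
      one_mem' := fun x _ => mem_fx.2 rfl
      mul_mem' := fun {a b} ha hb => (le_inf ha hb).trans (fx_inf_le_mul a.1 b.1)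
      inv_mem' := fun {a} ha => by
        show Fx u ≤ Fx (a.1⁻¹)
        rw [fx_inv]; exact ha }
  have hE : ∀ s : stabF H k, s ∈ E ↔ Fx u ≤ Fx s.1 := fun s => Iff.rfl
  have hEx : ∀ s : stabF H k, s ∈ E → s.1 x₀ = x₀ := fun s hs =>
    mem_fx.1 ((hE s).1 hs (im_le_fx_of_sq hu2 hx₀))
  have hEsq : ∀ s : stabF H k, s ∈ E → s * s = 1 := fun s hs =>
    Subtype.ext (hsq s.1 s.2 (hEx s hs))
  have hEab : ∀ a b : stabF H k, a ∈ E → b ∈ E → a * b = b * a := fun a b ha hb =>
    Subtype.ext (commute_of_sq (congrArg Subtype.val (hEsq a ha))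
      (congrArg Subtype.val (hEsq b hb)) (congrArg Subtype.val (hEsq _ (mul_mem ha hb))))
  have hEmem : ∀ s ∈ stabF H k, s x₀ = x₀ → Fx u ≤ Fx s := fun s hs hsx =>
    hfxE s hs (hcomm s hs hsx) (hsq s hs hsx)
  let u' : stabF H k := ⟨u, hu⟩
  have huE : u' ∈ E := (hE u').2 le_rfl
  -- every element becomes an involution after multiplication by an element of `E`
  have hfix : ∀ s : stabF H k, ∃ g ∈ E, (s * g) * (s * g) = 1 := by
    rintro ⟨s, hs⟩
    obtain ⟨g, hg, hgF, hgx, hg1, -⟩ := exists_invert hbin hs.1 x₀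
    have hgS : g ∈ stabF H k := ⟨hg, hs.2.trans hgF⟩
    refine ⟨⟨g, hgS⟩, (hE _).2 (hEmem g hgS hgx), ?_⟩
    have hgg : g * g = 1 := hsq g hgS hgx
    have h1 : (s * g * s) x₀ = x₀ := by
      rw [LinearEquiv.mul_apply, LinearEquiv.mul_apply, hg1]
      exact s.apply_symm_apply x₀
    have h2 : (s * g) * (s * g) = (s * g * s) * g := by simp [mul_assoc]
    have h3 : ((s * g) * (s * g)) x₀ = x₀ := by
      rw [h2, LinearEquiv.mul_apply, hgx, h1]
    have h4 := hsq _ (mul_mem (mul_mem hs hgS) (mul_mem hs hgS)) h3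
    have h5 : (s * g) ^ 4 = 1 := by
      rw [show 4 = 2 + 2 from rfl, pow_add, pow_two]
      exact h4
    obtain ⟨c, -, hc⟩ :=
      (Nat.dvd_prime_pow Nat.prime_two).1 (show orderOf (s * g) ∣ 2 ^ 2 from
        orderOf_dvd_of_pow_eq_one h5)
    exact Subtype.ext (hk.sq_of_two_power hbin hirr (mul_mem hs hgS) hc)
  have hEp : IsPGroup 2 E := fun s =>
    ⟨1, Subtype.ext (by rw [pow_one, pow_two]; exact hEsq s.1 s.2)⟩
  obtain ⟨P, hP⟩ := hEp.exists_le_sylow
  have hPE : (P : Subgroup (stabF H k)) = E := by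
    refine le_antisymm (fun s hs => ?_) hP
    have h2 : ∀ t ∈ (P : Subgroup (stabF H k)), t.1 * t.1 = 1 := fun t ht => by
      obtain ⟨a, ha⟩ := P.2 ⟨t, ht⟩
      obtain ⟨c, -, hc⟩ := (Nat.dvd_prime_pow Nat.prime_two).1 (orderOf_dvd_of_pow_eq_one ha)
      rw [Subgroup.orderOf_mk, ← Subgroup.orderOf_coe] at hc
      exact hk.sq_of_two_power hbin hirr t.2 hc
    exact (hE s).2 (hfxE s.1 s.2
      (commute_of_sq (h2 s hs) hu2 (h2 (s * u') (mul_mem hs (hP huE)))) (h2 s hs))
  have hNE : Subgroup.normalizer (P : Set (stabF H k)) ≤ (P : Subgroup (stabF H k)) := by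
    intro n hn
    obtain ⟨g, hgE, hng⟩ := hfix n
    have hgP : g ∈ (P : Subgroup (stabF H k)) := hP hgE
    rw [← Subgroup.mul_mem_cancel_right _ hgP]
    set v := n * g with hv
    have hvN : v ∈ Subgroup.normalizer (P : Set (stabF H k)) :=
      mul_mem hn (Subgroup.le_normalizer hgP)
    rw [hPE]
    by_cases hv1 : v = 1
    · rw [hv1]; exact one_mem E
    have hvv : v⁻¹ = v := inv_eq_of_mul_eq_one_right hng
    have hvuv : v * u' * v ∈ E := by
      have := (Subgroup.mem_normalizer_iff.1 hvN u').1 (hP huE)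
      rw [hvv] at this
      rwa [← hPE]
    by_cases he : u' * (v * u' * v) = 1
    · have hc : v.1 * u = u * v.1 := by
        have h6 : v * u' * v = u' :=
          (inv_eq_of_mul_eq_one_right he).symm.trans (inv_eq_of_mul_eq_one_right (hEsq u' huE))
        have h7 : v * u' = u' * v := by
          calc v * u' = v * u' * (v * v) := by rw [hng, mul_one]
            _ = v * u' * v * v := by simp [mul_assoc]
            _ = u' * v := by rw [h6]
        exact congrArg Subtype.val h7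
      exact (hE v).2 (hfxE v.1 v.2 hc (congrArg Subtype.val hng))
    · set e := u' * (v * u' * v) with he'
      have heE : e ∈ E := mul_mem huE hvuv
      have hve : v * e * v = e := by
        rw [he', hEab u' _ huE hvuv]
        calc v * (v * u' * v * u') * v = v * v * (u' * v * u' * v) := by simp [mul_assoc]
          _ = u' * (v * u' * v) := by rw [hng, one_mul]; simp [mul_assoc]
          _ = v * u' * v * u' := hEab u' _ huE hvuv
      have hvec : v.1 * e.1 = e.1 * v.1 := by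
        have h7 : v * e = e * v := by
          calc v * e = v * e * (v * v) := by rw [hng, mul_one]
            _ = v * e * v * v := by simp [mul_assoc]
            _ = e * v := by rw [hve]
        exact congrArg Subtype.val h7
      have he1 : e.1 ≠ 1 := fun h => he (Subtype.ext h)
      have hfe : Fx u = Fx e.1 := hk.fx_eq_of_commute hbin hirr hu hu2 hne e.2
        (congrArg Subtype.val (hEsq e heE)) he1 (congrArg Subtype.val (hEab u' e huE heE))
      refine (hE v).2 ?_
      rw [hfe]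
      exact (hk.fx_eq_of_commute hbin hirr e.2 (congrArg Subtype.val (hEsq e heE)) he1 v.2
        (congrArg Subtype.val hng) (fun h => hv1 (Subtype.ext h)) hvec.symm).le
  have hNC : Subgroup.normalizer (P : Set (stabF H k)) ≤
      Subgroup.centralizer (P : Set (stabF H k)) := by
    intro n hn
    rw [Subgroup.mem_centralizer_iff]
    intro m hm
    have hnE : n ∈ E := hPE ▸ hNE hn
    have hmE : m ∈ E := hPE ▸ hm
    exact hEab m n hmE hnE
  set T := MonoidHom.transferSylow P hNC with hT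
  have hcompl : Subgroup.IsComplement' T.ker (P : Subgroup (stabF H k)) :=
    MonoidHom.ker_transferSylow_isComplement' P hNC
  have hker2 : ¬ 2 ∣ Nat.card T.ker := MonoidHom.not_dvd_card_ker_transferSylow P hNC
  have hkerodd : ∀ o : stabF H k, o ∈ T.ker → Odd (orderOf o.1) := by
    intro o ho
    rw [Subgroup.orderOf_coe]
    have h2 : ¬ 2 ∣ orderOf o := fun h2 => hker2 (h2.trans (by
      rw [← Subgroup.orderOf_mk o ho]
      exact orderOf_dvd_natCard _))
    exact Nat.odd_iff.2 (by omega)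
  have hodd_ker : ∀ s : stabF H k, Odd (orderOf s.1) → s ∈ T.ker := by
    intro s hs
    rw [MonoidHom.mem_ker]
    obtain ⟨a, ha⟩ := P.2 (T s)
    have h1 : orderOf (T s) ∣ orderOf s := orderOf_map_dvd T s
    rw [← orderOf_eq_one_iff]
    rw [Subgroup.orderOf_coe] at hs
    exact Nat.eq_one_of_dvd_coprimes (Nat.Coprime.pow_right a (Nat.coprime_two_right.2 hs)) h1
      (orderOf_dvd_of_pow_eq_one ha)
  -- `u` inverts the complement
  have hTn : T.ker.Normal := inferInstance
  have hcent : ∀ e : stabF H k, e ∈ E → e ≠ 1 → ∀ o : stabF H k, o ∈ T.ker →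
      e * o = o * e → o = 1 := by
    intro e he he1 o ho hoc
    have hfe : Fx u = Fx e.1 := hk.fx_eq_of_commute hbin hirr hu hu2 hne e.2
      (congrArg Subtype.val (hEsq e he)) (fun h => he1 (Subtype.ext h))
      (congrArg Subtype.val (hEab u' e huE he))
    have hoN : o ∈ Subgroup.normalizer (P : Set (stabF H k)) := by
      have hconj : o * e * o⁻¹ = e := by rw [← hoc, mul_inv_cancel_right]
      have hmap : (Fx u).map o.1.toLinearMap = Fx u := by
        rw [hfe, map_fx]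
        exact congrArg Fx (congrArg Subtype.val hconj)
      apply Invol.mem_normalizer_of_conj_le
      rintro _ ⟨m, hm, rfl⟩
      have hm' : m ∈ E := hPE ▸ hm
      rw [hPE]
      refine (hE _).2 ?_
      show Fx u ≤ Fx (o.1 * m.1 * o.1⁻¹)
      rw [← map_fx, ← hmap]
      exact Submodule.map_mono ((hE m).1 hm')
    have hoP := hNE hoN
    have := hcompl.disjoint
    rw [Subgroup.disjoint_def] at this
    exact this ho hoP
  have hinvert : ∀ e : stabF H k, e ∈ E → e ≠ 1 → ∀ o : stabF H k, o ∈ T.ker →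
      e * o * e = o⁻¹ := by
    intro e he he1 o ho
    have hee := hEsq e he
    have hei : e⁻¹ = e := inv_eq_of_mul_eq_one_right hee
    let f : T.ker → T.ker := fun a => ⟨a.1⁻¹ * (e * a.1 * e),
      mul_mem (inv_mem a.2) (by have := hTn.conj_mem a.1 a.2 e; rwa [hei] at this)⟩
    have hf : Function.Injective f := by
      intro a b hab
      have h1 : a.1⁻¹ * (e * a.1 * e) = b.1⁻¹ * (e * b.1 * e) := congrArg Subtype.val hab
      have h2 : e * (b.1 * a.1⁻¹) = (b.1 * a.1⁻¹) * e := by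
        calc e * (b.1 * a.1⁻¹) = (b.1 * (b.1⁻¹ * (e * b.1 * e))) * (e * a.1⁻¹) := by
              rw [mul_inv_cancel_left]
              simp [mul_assoc, hee, ← mul_assoc e e]
          _ = (b.1 * (a.1⁻¹ * (e * a.1 * e))) * (e * a.1⁻¹) := by rw [h1]
          _ = (b.1 * a.1⁻¹) * e := by
              simp [mul_assoc, hee, ← mul_assoc e e]
      have h3 := hcent e he he1 _ (mul_mem b.2 (inv_mem a.2)) h2
      exact Subtype.ext (mul_inv_eq_one.1 h3).symm
    obtain ⟨a, ha⟩ := Finite.surjective_of_injective hf ⟨o, ho⟩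
    have ha' : o = a.1⁻¹ * (e * a.1 * e) := (congrArg Subtype.val ha).symm
    rw [ha', mul_inv_rev, inv_inv, mul_inv_rev, mul_inv_rev, hei]
    simp [mul_assoc, hee]
  -- `E = {1, u}`
  have hu'ne : u' ≠ 1 := fun h => hne (congrArg Subtype.val h)
  have hkk : (⟨k, hk.mem, le_rfl⟩ : stabF H k) ∈ T.ker := hodd_ker _ hk.odd
  have hE2 : ∀ e : stabF H k, e ∈ E → e = 1 ∨ e = u' := by
    intro e he
    by_contra hcon
    push Not at hcon
    have h1 : u' * e ≠ 1 := fun h => hcon.2
      ((inv_eq_of_mul_eq_one_right h).symm.trans (inv_eq_of_mul_eq_one_right (hEsq u' huE)))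
    have h2 := hinvert e he hcon.1 _ hkk
    have h3 := hinvert u' huE hu'ne _ (inv_mem hkk)
    rw [inv_inv] at h3
    have h4 : (u' * e) * ⟨k, hk.mem, le_rfl⟩ = ⟨k, hk.mem, le_rfl⟩ * (u' * e) := by
      rw [← mul_inv_eq_iff_eq_mul, mul_inv_rev, inv_eq_of_mul_eq_one_right (hEsq e he),
        inv_eq_of_mul_eq_one_right (hEsq u' huE)]
      calc u' * e * (⟨k, hk.mem, le_rfl⟩ : stabF H k) * (e * u')
          = u' * (e * ⟨k, hk.mem, le_rfl⟩ * e) * u' := by simp [mul_assoc]
        _ = ⟨k, hk.mem, le_rfl⟩ := by rw [h2, h3]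
    exact hk.ne_one (congrArg Subtype.val
      (hcent _ (mul_mem huE he) h1 _ hkk h4))
  refine ⟨T.ker.map (stabF H k).subtype, Subgroup.map_subtype_le _, ?_, ?_, ?_, ?_⟩
  · rintro _ ⟨o, ho, rfl⟩
    exact ⟨hkerodd o ho, congrArg Subtype.val (hinvert u' huE hu'ne o ho)⟩
  · intro s hs hso
    exact ⟨⟨s, hs⟩, hodd_ker ⟨s, hs⟩ hso, rfl⟩
  · intro s hs
    obtain ⟨⟨⟨o, ho⟩, ⟨e, he⟩⟩, hoe⟩ := hcompl.2 (⟨s, hs⟩ : stabF H k)
    have hoe' : o * e = ⟨s, hs⟩ := hoe
    rcases hE2 e (hPE ▸ he) with h | h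
    · left
      rw [h, mul_one] at hoe'
      exact ⟨o, ho, congrArg Subtype.val hoe'⟩
    · right
      refine ⟨o, ho, ?_⟩
      have h1 : o.1 * u = s := by
        rw [h] at hoe'
        exact congrArg Subtype.val hoe'
      rw [← h1, mul_assoc, hu2, mul_one]
      rfl
  · intro h hh hle
    rcases hE2 ⟨h, hh⟩ hle with h1 | h1
    · exact Or.inl (congrArg Subtype.val h1)
    · exact Or.inr (congrArg Subtype.val h1)

end Cfsg.Agent.BinaryAffine
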