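import Mathlib.Data.Finite.Sigma
import Mathlib.SetTheory.Cardinal.Finite
import Cfsg.Agent.BinaryAffine.Block

/-!
Consequences of the structure of a block: the dihedral action on `W`, the partition of the
non-zero vectors of `W` by the reflections, reflections of the whole group and their uniqueness.
-/

set_option autoImplicit false

namespace Cfsg.Agent.BinaryAffine

variable {V : Type} [AddCommGroup V] [Module (ZMod 2) V] [Finite V]
variable {H : Subgroup (V ≃ₗ[ZMod 2] V)} (hbin : Bin H) (hirr : Irr H)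

omit [Finite V] in
theorem not_odd_of_sq {t : V ≃ₗ[ZMod 2] V} (h : t * t = 1) (hne : t ≠ 1) : ¬ Odd (orderOf t) := by
  rw [orderOf_eq_two_of_sq h hne]
  decide

include hbin

/-- An element commuting with an involution fixes its commutator space. -/
theorem im_le_fx_of_commute {u h : V ≃ₗ[ZMod 2] V} (hu : u ∈ H) (hu2 : u * u = 1) (hh : h ∈ H)
    (hc : h * u = u * h) : Im u ≤ Fx h := by
  intro y hy
  rw [mem_fx]
  refine eq_of_mem_fx_of_mem_im hbin hu hh (im_le_fx_of_sq hu2 hy) (sub_mem ?_ hy)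
  have hconj : h * u * h⁻¹ = u := by rw [hc, mul_inv_cancel_right]
  have := map_im h u
  rw [hconj] at this
  rw [← this]
  exact Submodule.mem_map_of_mem hy

include hirr

/-- An involution inverts the elements of odd order. -/
theorem IsBlock.inv_odd {k t o : V ≃ₗ[ZMod 2] V} (hk : IsBlock H k) (ht : t ∈ stabF H k)
    (ht2 : t * t = 1) (htne : t ≠ 1) (ho : o ∈ stabF H k) (hoo : Odd (orderOf o)) :
    t * o * t = o⁻¹ := by
  obtain ⟨O, -, hO, hOall, -⟩ := hk.structure_stab hbin hirr ht ht2 htne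
  exact (hO o (hOall o ho hoo)).2

/-- The elements of odd order form a group. -/
theorem IsBlock.exists_oddGroup {k : V ≃ₗ[ZMod 2] V} (hk : IsBlock H k) :
    ∃ O : Subgroup (V ≃ₗ[ZMod 2] V), ∀ s, s ∈ O ↔ s ∈ stabF H k ∧ Odd (orderOf s) := by
  obtain ⟨u, hu, hu2, hune⟩ := hk.exists_invol hbin
  obtain ⟨O, hOS, hO, hOall, -⟩ := hk.structure_stab hbin hirr hu hu2 hune
  exact ⟨O, fun s => ⟨fun hs => ⟨hOS hs, (hO s hs).1⟩, fun hs => hOall s hs.1 hs.2⟩⟩

theorem IsBlock.odd_mul {k a b : V ≃ₗ[ZMod 2] V} (hk : IsBlock H k) (ha : a ∈ stabF H k)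
    (hao : Odd (orderOf a)) (hb : b ∈ stabF H k) (hbo : Odd (orderOf b)) :
    Odd (orderOf (a * b)) := by
  obtain ⟨O, hO⟩ := hk.exists_oddGroup hbin hirr
  exact ((hO _).1 (mul_mem ((hO a).2 ⟨ha, hao⟩) ((hO b).2 ⟨hb, hbo⟩))).2

theorem IsBlock.odd_comm {k a b : V ≃ₗ[ZMod 2] V} (hk : IsBlock H k) (ha : a ∈ stabF H k)
    (hao : Odd (orderOf a)) (hb : b ∈ stabF H k) (hbo : Odd (orderOf b)) : a * b = b * a := by
  obtain ⟨u, hu, hu2, hune⟩ := hk.exists_invol hbin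
  have h1 := hk.inv_odd hbin hirr hu hu2 hune (mul_mem ha hb) (hk.odd_mul hbin hirr ha hao hb hbo)
  have h2 : u * (a * b) * u = (u * a * u) * (u * b * u) := by
    simp only [mul_assoc]
    rw [← mul_assoc u u, hu2, one_mul]
  rw [h2, hk.inv_odd hbin hirr hu hu2 hune ha hao, hk.inv_odd hbin hirr hu hu2 hune hb hbo,
    ← mul_inv_rev, inv_inj] at h1
  exact h1.symm

/-- An element of even order is an involution. -/
theorem IsBlock.sq_of_not_odd {k s : V ≃ₗ[ZMod 2] V} (hk : IsBlock H k) (hs : s ∈ stabF H k)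
    (hso : ¬ Odd (orderOf s)) : s * s = 1 ∧ s ≠ 1 := by
  obtain ⟨u, hu, hu2, hune⟩ := hk.exists_invol hbin
  obtain ⟨O, -, hO, -, hdich, -⟩ := hk.structure_stab hbin hirr hu hu2 hune
  refine ⟨?_, fun h => hso (by rw [h, orderOf_one]; exact odd_one)⟩
  rcases hdich s hs with h1 | h1
  · exact absurd (hO s h1).1 hso
  · have h2 := (hO _ h1).2
    rw [mul_inv_rev, inv_eq_of_sq hu2, mul_assoc, mul_assoc, hu2, mul_one] at h2
    have h3 : s = s⁻¹ := mul_left_cancel h2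
    exact mul_eq_one_iff_eq_inv.2 h3

/-- The product of two involutions has odd order. -/
theorem IsBlock.odd_invol_mul {k t t' : V ≃ₗ[ZMod 2] V} (hk : IsBlock H k) (ht : t ∈ stabF H k)
    (ht2 : t * t = 1) (htne : t ≠ 1) (ht' : t' ∈ stabF H k) (ht'2 : t' * t' = 1)
    (ht'ne : t' ≠ 1) : Odd (orderOf (t' * t)) := by
  obtain ⟨O, -, hO, -, hdich, -⟩ := hk.structure_stab hbin hirr ht ht2 htne
  rcases hdich t' ht' with h1 | h1
  · exact absurd (hO t' h1).1 (not_odd_of_sq ht'2 ht'ne)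
  · exact (hO _ h1).1

/-- Only `1` and `u` fix the fixed space of the involution `u`. -/
theorem IsBlock.eq_of_fx_le {k u h : V ≃ₗ[ZMod 2] V} (hk : IsBlock H k) (hu : u ∈ stabF H k)
    (hu2 : u * u = 1) (hune : u ≠ 1) (hh : h ∈ H) (hle : Fx u ≤ Fx h) : h = 1 ∨ h = u := by
  obtain ⟨O, -, -, -, -, hE⟩ := hk.structure_stab hbin hirr hu hu2 hune
  exact hE h ⟨hh, hu.2.trans hle⟩ hle

/-- The stabiliser preserves `W`. -/
theorem IsBlock.apply_mem_im {k s w : V ≃ₗ[ZMod 2] V} {x : V} (hk : IsBlock H k)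
    (hw : w = k) (hs : s ∈ stabF H k) (hx : x ∈ Im k) : s x ∈ Im k := by
  subst hw
  have hmap : (Im w).map s.toLinearMap ≤ Im w := by
    rw [map_im]
    by_cases hso : Odd (orderOf s)
    · rw [hk.odd_comm hbin hirr hs hso ⟨hk.mem, le_rfl⟩ hk.odd, mul_inv_cancel_right]
    · obtain ⟨hs2, hsne⟩ := hk.sq_of_not_odd hbin hirr hs hso
      rw [inv_eq_of_sq hs2, hk.inv_odd hbin hirr hs hs2 hsne ⟨hk.mem, le_rfl⟩ hk.odd]
      rintro _ hy
      obtain ⟨y, rfl⟩ := mem_im.1 hy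
      refine mem_im.2 ⟨-(w⁻¹ y), ?_⟩
      rw [map_neg, show w (w⁻¹ y) = y from w.apply_symm_apply y]
      abel
  exact hmap (Submodule.mem_map_of_mem hx)

/-- Commutator spaces of the stabiliser lie in `W`. -/
theorem IsBlock.im_le {k s : V ≃ₗ[ZMod 2] V} (hk : IsBlock H k) (hs : s ∈ stabF H k) :
    Im s ≤ Im k := by
  intro z hz
  obtain ⟨x, rfl⟩ := mem_im.1 hz
  have hc := isCompl_fx_im hk.odd
  obtain ⟨f, hf, w, hw, rfl⟩ :=
    Submodule.mem_sup.1 (hc.sup_eq_top ▸ Submodule.mem_top : x ∈ Fx k ⊔ Im k)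
  rw [map_add, mem_fx.1 (hs.2 hf), add_sub_add_left_eq_sub]
  exact sub_mem (hk.apply_mem_im hbin hirr rfl hs hw) hw

/-- A fixed vector of an involution in `W` lies in its commutator space. -/
theorem IsBlock.mem_im_of_fixed {k t : V ≃ₗ[ZMod 2] V} {x : V} (hk : IsBlock H k)
    (ht : t ∈ stabF H k) (ht2 : t * t = 1) (htne : t ≠ 1) (hx : x ∈ Fx t) (hxW : x ∈ Im k) :
    x ∈ Im t := by
  obtain ⟨-, hf⟩ := hk.invol_spec hbin hirr ht ht2 htne
  rw [hf] at hx
  obtain ⟨f, hfF, i, hi, rfl⟩ := Submodule.mem_sup.1 hx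
  have h1 : f ∈ Fx k ⊓ Im k := Submodule.mem_inf.2 ⟨hfF, by
    have := sub_mem hxW (hk.im_le hbin hirr ht hi)
    rwa [add_sub_cancel_right] at this⟩
  rw [(isCompl_fx_im hk.odd).inf_eq_bot, Submodule.mem_bot] at h1
  rw [h1, zero_add]
  exact hi

/-- Every non-zero vector of `W` lies in the commutator space of some involution. -/
theorem IsBlock.exists_cover {k : V ≃ₗ[ZMod 2] V} (hk : IsBlock H k) {w : V} (hw : w ∈ Im k)
    (hw0 : w ≠ 0) : ∃ t ∈ stabF H k, t * t = 1 ∧ t ≠ 1 ∧ w ∈ Im t := by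
  have hwF : w ∉ Fx k := fun h => hw0 (by
    have : w ∈ Fx k ⊓ Im k := Submodule.mem_inf.2 ⟨h, hw⟩
    rwa [(isCompl_fx_im hk.odd).inf_eq_bot, Submodule.mem_bot] at this)
  obtain ⟨g, hg, hgF, hgw, hg1, -⟩ := exists_invert hbin hk.mem w
  have hgS : g ∈ stabF H k := ⟨hg, hgF⟩
  have hgne : g ≠ 1 := by
    intro h1
    rw [h1] at hg1
    apply hwF
    rw [mem_fx]
    obtain ⟨c, hc⟩ := hk.odd
    have h5 : (k ^ 2) w = w := by
      have := congrArg k hg1
      rw [show k (k⁻¹ w) = w from k.apply_symm_apply w] at this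
      rw [pow_two, LinearEquiv.mul_apply]
      exact this
    have h6 : (k ^ 2) ^ (c + 1) = k := by
      rw [← pow_mul, show 2 * (c + 1) = orderOf k + 1 by omega, pow_succ, pow_orderOf_eq_one,
        one_mul]
    have h7 := mem_fx.1 (fx_le_pow (k ^ 2) (c + 1) (mem_fx.2 h5))
    rwa [h6] at h7
  have hgo : ¬ Odd (orderOf g) := fun ho => hwF (by
    rw [← hk.odd_fx hgS hgne ho]
    exact mem_fx.2 hgw)
  obtain ⟨hg2, -⟩ := hk.sq_of_not_odd hbin hirr hgS hgo
  exact ⟨g, hgS, hg2, hgne, hk.mem_im_of_fixed hbin hirr hgS hg2 hgne (mem_fx.2 hgw) hw⟩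

/-- Two involutions of the stabiliser with meeting commutator spaces are equal. -/
theorem IsBlock.cover_unique {k t t' : V ≃ₗ[ZMod 2] V} (hk : IsBlock H k) (ht : t ∈ stabF H k)
    (ht2 : t * t = 1) (htne : t ≠ 1) (ht' : t' ∈ stabF H k) (ht'2 : t' * t' = 1)
    (ht'ne : t' ≠ 1) {w : V} (hw0 : w ≠ 0) (hw : w ∈ Im t) (hw' : w ∈ Im t') : t = t' := by
  by_contra hne
  have h1 : t' * t ≠ 1 := fun h => hne
    ((inv_eq_of_mul_eq_one_right h).symm.trans (inv_eq_of_sq ht'2))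
  have h2 : w ∈ Fx (t' * t) :=
    fx_inf_le_mul t' t (Submodule.mem_inf.2 ⟨im_le_fx_of_sq ht'2 hw', im_le_fx_of_sq ht2 hw⟩)
  rw [hk.odd_fx (mul_mem ht' ht) h1 (hk.odd_invol_mul hbin hirr ht ht2 htne ht' ht'2 ht'ne)] at h2
  have h3 : w ∈ Fx k ⊓ Im k := Submodule.mem_inf.2 ⟨h2, hk.im_le hbin hirr ht hw⟩
  rw [(isCompl_fx_im hk.odd).inf_eq_bot, Submodule.mem_bot] at h3
  exact hw0 h3

omit hbin hirr in
theorem natCard_submodule (U : Submodule (ZMod 2) V) :
    Nat.card U = 2 ^ Module.finrank (ZMod 2) U := by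
  rw [Module.natCard_eq_pow_finrank (K := ZMod 2), Nat.card_zmod]

omit hbin hirr in
theorem natCard_ne_zero (U : Submodule (ZMod 2) V) :
    Nat.card {x : U // x ≠ 0} = 2 ^ Module.finrank (ZMod 2) U - 1 := by
  classical
  have : Fintype U := Fintype.ofFinite _
  rw [← natCard_submodule, Nat.card_eq_fintype_card, Nat.card_eq_fintype_card,
    Fintype.card_subtype_compl, Fintype.card_subtype_eq]

/-- There are `q + 1` involutions and `q + 1` elements of odd order, `q² = #W`. -/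
theorem IsBlock.card_odd {k : V ≃ₗ[ZMod 2] V} (hk : IsBlock H k) {O : Subgroup (V ≃ₗ[ZMod 2] V)}
    (hO : ∀ s, s ∈ O ↔ s ∈ stabF H k ∧ Odd (orderOf s)) :
    ∃ m, codimFix k = 2 * m ∧ 0 < m ∧ Nat.card O = 2 ^ m + 1 ∧
      Nat.card {t // t ∈ stabF H k ∧ t * t = 1 ∧ t ≠ 1} = 2 ^ m + 1 := by
  classical
  obtain ⟨u, hu, hu2, hune⟩ := hk.exists_invol hbin
  obtain ⟨hum, -⟩ := hk.invol_spec hbin hirr hu hu2 hune
  refine ⟨codimFix u, hum.symm, codimFix_pos hune, ?_⟩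
  set T := {t // t ∈ stabF H k ∧ t * t = 1 ∧ t ≠ 1}
  have e1 : Nat.card O = Nat.card T := by
    refine Nat.card_congr (Equiv.ofBijective (fun o : O => (⟨o.1 * u, ?_⟩ : T)) ⟨?_, ?_⟩)
    · obtain ⟨hoS, hoo⟩ := (hO o.1).1 o.2
      refine ⟨mul_mem hoS hu, ?_, fun h => ?_⟩
      · rw [mul_assoc, ← mul_assoc u, hk.inv_odd hbin hirr hu hu2 hune hoS hoo, mul_inv_cancel]
      · have h1 : o.1 = u := (eq_inv_of_mul_eq_one_left h).trans (inv_eq_of_sq hu2)
        rw [h1] at hoo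
        exact not_odd_of_sq hu2 hune hoo
    · intro a b hab
      exact Subtype.ext (mul_right_cancel (congrArg Subtype.val hab))
    · rintro ⟨t, ht, ht2, htne⟩
      refine ⟨⟨t * u, (hO _).2 ⟨mul_mem ht hu,
        hk.odd_invol_mul hbin hirr hu hu2 hune ht ht2 htne⟩⟩, Subtype.ext ?_⟩
      show t * u * u = t
      rw [mul_assoc, hu2, mul_one]
  have e2 : Nat.card T * (2 ^ codimFix u - 1) = 2 ^ (2 * codimFix u) - 1 := by
    have hc : ∀ t : T, Nat.card {x : Im t.1 // x ≠ 0} = 2 ^ codimFix u - 1 := fun t => by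
      obtain ⟨htm, -⟩ := hk.invol_spec hbin hirr t.2.1 t.2.2.1 t.2.2.2
      rw [natCard_ne_zero]
      show 2 ^ codimFix t.1 - 1 = _
      rw [show codimFix t.1 = codimFix u by omega]
    have hbij : Nat.card (Σ t : T, {x : Im t.1 // x ≠ 0}) = Nat.card {x : Im k // x ≠ 0} := by
      refine Nat.card_congr (Equiv.ofBijective
        (fun p => ⟨⟨p.2.1.1, hk.im_le hbin hirr p.1.2.1 p.2.1.2⟩,
          fun h => p.2.2 (Subtype.ext (show (p.2.1 : V) = 0 from congrArg Subtype.val h))⟩) ⟨?_, ?_⟩)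
      · rintro ⟨t, ⟨x, hx⟩, hx0⟩ ⟨t', ⟨x', hx'⟩, hx'0⟩ heq
        have hxx : x = x' := congrArg (fun p => p.1.1) heq
        subst hxx
        have htt : t = t' := Subtype.ext (hk.cover_unique hbin hirr t.2.1 t.2.2.1 t.2.2.2 t'.2.1
          t'.2.2.1 t'.2.2.2 (fun h => hx0 (Subtype.ext h)) hx hx')
        subst htt
        rfl
      · rintro ⟨⟨w, hw⟩, hw0⟩
        obtain ⟨t, ht, ht2, htne, hwt⟩ :=
          hk.exists_cover hbin hirr hw (fun h => hw0 (Subtype.ext h))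
        exact ⟨⟨⟨t, ht, ht2, htne⟩, ⟨⟨w, hwt⟩, fun h => hw0
          (Subtype.ext (show w = 0 from congrArg Subtype.val h))⟩⟩, rfl⟩
    have : Fintype T := Fintype.ofFinite _
    rw [Nat.card_sigma, Finset.sum_congr rfl fun t _ => hc t, Finset.sum_const,
      Finset.card_univ, smul_eq_mul, natCard_ne_zero] at hbij
    rw [Nat.card_eq_fintype_card, hbij, show Module.finrank (ZMod 2) (Im k) = codimFix k from rfl,
      ← hum]
  have h2 : 2 ≤ 2 ^ codimFix u := by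
    calc 2 = 2 ^ 1 := rfl
      _ ≤ 2 ^ codimFix u := Nat.pow_le_pow_right (by norm_num) (codimFix_pos hune)
  have e3 : 2 ^ (2 * codimFix u) - 1 = (2 ^ codimFix u + 1) * (2 ^ codimFix u - 1) := by
    rw [two_mul, pow_add]
    obtain ⟨c, hc⟩ : ∃ c, 2 ^ codimFix u = c + 1 := ⟨2 ^ codimFix u - 1, by omega⟩
    rw [hc, Nat.add_sub_cancel]
    have : (c + 1) * (c + 1) = (c + 1 + 1) * c + 1 := by ring
    omega
  rw [e3] at e2
  have e4 : Nat.card T = 2 ^ codimFix u + 1 := Nat.eq_of_mul_eq_mul_right (by omega) e2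
  exact ⟨e1.trans e4, e4⟩

/-- The elements of odd order act irreducibly on `W`. -/
theorem IsBlock.irreducible {k : V ≃ₗ[ZMod 2] V} (hk : IsBlock H k) {U : Submodule (ZMod 2) V}
    (hU : U ≤ Im k)
    (hinv : ∀ s ∈ stabF H k, Odd (orderOf s) → ∀ x ∈ U, s x ∈ U) : U = ⊥ ∨ U = Im k := by
  classical
  obtain ⟨O, hO⟩ := hk.exists_oddGroup hbin hirr
  obtain ⟨m, hm, hm0, hcard, -⟩ := hk.card_odd hbin hirr hO
  rcases eq_or_ne U ⊥ with h0 | h0
  · exact Or.inl h0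
  right
  refine Submodule.eq_of_le_of_finrank_le hU ?_
  set d := Module.finrank (ZMod 2) U with hd
  show codimFix k ≤ d
  let X := {x : U // x ≠ 0}
  let : MulAction O X :=
    { smul := fun s x => ⟨⟨s.1 x.1.1, hinv s.1 ((hO _).1 s.2).1 ((hO _).1 s.2).2 _ x.1.2⟩,
        fun h => x.2 (Subtype.ext (s.1.injective
          ((congrArg Subtype.val h).trans (map_zero s.1).symm)))⟩
      one_smul := fun x => rfl
      mul_smul := fun a b x => rfl }
  have hsmul : ∀ (s : O) (x : X), ((s • x : X).1 : V) = s.1 x.1.1 := fun s x => rfl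
  have hfree : ∀ x : X, MulAction.stabilizer O x = ⊥ := by
    intro x
    rw [eq_bot_iff]
    intro s hs
    rw [MulAction.mem_stabilizer_iff] at hs
    rw [Subgroup.mem_bot]
    by_contra hne
    obtain ⟨hsS, hso⟩ := (hO s.1).1 s.2
    have h1 : x.1.1 ∈ Fx s.1 := mem_fx.2 ((hsmul s x).symm.trans (congrArg (fun y : X => (y.1 : V)) hs))
    rw [hk.odd_fx hsS (fun h => hne (Subtype.ext h)) hso] at h1
    have h2 : x.1.1 ∈ Fx k ⊓ Im k := Submodule.mem_inf.2 ⟨h1, hU x.1.2⟩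
    rw [(isCompl_fx_im hk.odd).inf_eq_bot, Submodule.mem_bot] at h2
    exact x.2 (Subtype.ext h2)
  have hdvd : 2 ^ m + 1 ∣ 2 ^ d - 1 := by
    rw [← hcard, ← natCard_ne_zero U,
      Nat.card_congr (MulAction.selfEquivOrbitsQuotientProd hfree), Nat.card_prod]
    exact dvd_mul_left _ _
  have hd0 : 0 < d := Nat.pos_of_ne_zero fun h => h0 (Submodule.finrank_eq_zero.1 h)
  rw [hm]
  by_contra hlt
  have hm1 : 2 ≤ 2 ^ m := by
    calc 2 = 2 ^ 1 := rfl
      _ ≤ 2 ^ m := Nat.pow_le_pow_right (by norm_num) hm0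
  have hd1 : 2 ≤ 2 ^ d := by
    calc 2 = 2 ^ 1 := rfl
      _ ≤ 2 ^ d := Nat.pow_le_pow_right (by norm_num) hd0
  rcases le_or_gt d m with hdm | hdm
  · have h1 : 2 ^ d ≤ 2 ^ m := Nat.pow_le_pow_right (by norm_num) hdm
    have h2 := Nat.le_of_dvd (by omega) hdvd
    omega
  · clear_value d
    obtain ⟨e, rfl⟩ : ∃ e, d = m + e := ⟨d - m, by omega⟩
    have h1 : 2 ^ (m + e) - 1 + (2 ^ e + 1) = (2 ^ m + 1) * 2 ^ e := by
      rw [pow_add, add_mul, one_mul]
      have : 1 ≤ 2 ^ m * 2 ^ e := Nat.one_le_iff_ne_zero.2 (by positivity)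
      omega
    have h2 : 2 ^ m + 1 ∣ 2 ^ e + 1 := (Nat.dvd_add_right hdvd).1 (h1 ▸ dvd_mul_right _ _)
    have h3 : 2 ^ e < 2 ^ m := Nat.pow_lt_pow_right (by norm_num) (by omega)
    have h4 := Nat.le_of_dvd (Nat.succ_pos _) h2
    omega

/-- An involutory map commuting with the elements of odd order and preserving `W` fixes it. -/
theorem IsBlock.le_fx_of_commute {k h : V ≃ₗ[ZMod 2] V} (hk : IsBlock H k) (h2 : h * h = 1)
    (hc : ∀ s ∈ stabF H k, Odd (orderOf s) → h * s = s * h) : Im k ≤ Fx h := by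
  have hW : ∀ x ∈ Im k, h x ∈ Im k := by
    intro x hx
    have := map_im h k
    rw [hc k ⟨hk.mem, le_rfl⟩ hk.odd, mul_inv_cancel_right] at this
    rw [← this]
    exact Submodule.mem_map_of_mem hx
  rcases hk.irreducible hbin hirr (U := Im k ⊓ Fx h) inf_le_left (fun s hs hso x hx => by
    obtain ⟨hx1, hx2⟩ := Submodule.mem_inf.1 hx
    refine Submodule.mem_inf.2 ⟨hk.apply_mem_im hbin hirr rfl hs hx1, mem_fx.2 ?_⟩
    rw [← LinearEquiv.mul_apply, hc s hs hso, LinearEquiv.mul_apply, mem_fx.1 hx2]) with h0 | h0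
  · exfalso
    apply hk.ne_one
    refine im_eq_bot_iff.1 (eq_bot_iff.2 fun x hx => ?_)
    have h1 : x + h x ∈ Im k ⊓ Fx h := Submodule.mem_inf.2 ⟨add_mem hx (hW x hx), mem_fx.2 (by
      rw [map_add, ← LinearEquiv.mul_apply, h2]
      exact add_comm _ _)⟩
    rw [h0, Submodule.mem_bot] at h1
    have h3 : x ∈ Im k ⊓ Fx h := Submodule.mem_inf.2 ⟨hx, mem_fx.2 (eq_of_add_eq_zero_two h1).symm⟩
    rwa [h0] at h3
  · exact h0.symm.le.trans inf_le_right

omit hbin hirr [Finite V] in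
/-- All blocks have the same dimension. -/
theorem IsBlock.codimFix_eq {k k' : V ≃ₗ[ZMod 2] V} (hk : IsBlock H k) (hk' : IsBlock H k') :
    codimFix k = codimFix k' :=
  le_antisymm (hk.min k' hk'.mem hk'.ne_one hk'.odd) (hk'.min k hk.mem hk.ne_one hk.odd)

end Cfsg.Agent.BinaryAffine
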