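import Mathlib.FieldTheory.Fixed
import Mathlib.RingTheory.Norm.Transitivity
import Mathlib.FieldTheory.Galois.Basic
import Mathlib.RingTheory.IntegralDomain
import Mathlib.Algebra.Algebra.Subalgebra.Basic
import Cfsg.Agent.BinaryAffine.Basic

/-!
Recognition of the anisotropic plane orthogonal group as a linear group: if a commutative
subalgebra `K` of `End V` acts simply transitively on the non-zero vectors, `S` is an involution
fixing a vector and inducing a non-trivial automorphism of `K`, every element of `H` is a norm-one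
element of `K` possibly followed by `S`, and every non-zero vector has a non-trivial stabiliser in
`H`, then `H` is the whole group `x ↦ a φ(x)` of the quadratic extension.
-/

set_option autoImplicit false

namespace Cfsg.Agent.BinaryAffine

variable {p : ℕ} [Fact p.Prime] {V : Type} [AddCommGroup V] [Module (ZMod p) V] [Finite V]

set_option maxHeartbeats 1000000 in
/-- The recognition lemma. -/
theorem finish (H : Subgroup (V ≃ₗ[ZMod p] V))
    (K : Subalgebra (ZMod p) (Module.End (ZMod p) V)) (S : V ≃ₗ[ZMod p] V) (w₀ : V)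
    (hw₀ : w₀ ≠ 0)
    (hcomm : ∀ a ∈ K, ∀ b ∈ K, a * b = b * a)
    (hinj : ∀ a ∈ K, ∀ v, a v = 0 → a = 0 ∨ v = 0)
    (hsurj : ∀ v, ∃ a ∈ K, a w₀ = v)
    (hS2 : ∀ v, S (S v) = v) (hSw₀ : S w₀ = w₀)
    (hSK : ∀ a ∈ K, S.toLinearMap * a * S.toLinearMap ∈ K)
    (hne : ∃ a ∈ K, S.toLinearMap * a * S.toLinearMap ≠ a)
    (hH : ∀ h ∈ H, ∃ a ∈ K, (∀ v, a (S (a (S v))) = v) ∧
      ((∀ v, h v = a v) ∨ (∀ v, h v = a (S v))))
    (hstab : ∀ v : V, v ≠ 0 → ∃ h ∈ H, h ≠ 1 ∧ h v = v) :
    ∃ (F E : Type) (_ : Field F) (_ : Fintype F) (_ : Field E) (_ : Fintype E) (_ : Algebra F E)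
      (e : V ≃+ E), Module.finrank F E = 2 ∧
      ∀ f : V → V, (∃ h ∈ H, ∀ v, h v = f v) ↔
        ∃ (a : E) (φ : E ≃ₐ[F] E), Algebra.norm F a = 1 ∧ ∀ v, e (f v) = a * φ (e v) := by
  classical
  let : CommRing K :=
    { (inferInstance : Ring K) with
      mul_comm := fun a b => Subtype.ext (hcomm a.1 a.2 b.1 b.2) }
  have : Nontrivial K := ⟨⟨0, 1, fun he => hw₀ (by
    have := congrArg (fun a : K => a.1 w₀) he
    simpa using this.symm)⟩⟩
  have : Finite K := Finite.of_injective
    (fun a : K => (a.1 : V → V)) (fun a b h => Subtype.ext (DFunLike.coe_injective h))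
  have : NoZeroDivisors K := ⟨fun {a b} hab => by
    have h1 : a.1 (b.1 w₀) = 0 := by
      have := congrArg (fun c : K => c.1 w₀) hab
      simpa [Module.End.mul_apply] using this
    rcases hinj a.1 a.2 _ h1 with h2 | h2
    · exact Or.inl (Subtype.ext h2)
    · rcases hinj b.1 b.2 _ h2 with h3 | h3
      · exact Or.inr (Subtype.ext h3)
      · exact absurd h3 hw₀⟩
  have : IsDomain K := NoZeroDivisors.to_isDomain K
  let : Field K := (Finite.isField_of_domain K).toField
  -- evaluation at the fixed vector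
  have hev : Function.Bijective fun a : K => a.1 w₀ := by
    refine ⟨fun a b hab => ?_, fun v => ?_⟩
    · have h1 : (a.1 - b.1) w₀ = 0 := by
        rw [LinearMap.sub_apply]
        exact sub_eq_zero.2 hab
      rcases hinj _ (K.sub_mem a.2 b.2) _ h1 with h2 | h2
      · exact Subtype.ext (sub_eq_zero.1 h2)
      · exact absurd h2 hw₀
    · obtain ⟨a, ha, hav⟩ := hsurj v
      exact ⟨⟨a, ha⟩, hav⟩
  let ev : K ≃+ V := AddEquiv.ofBijective
    ({ toFun := fun a => a.1 w₀, map_zero' := rfl, map_add' := fun a b => rfl } : K →+ V) hev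
  have hev_apply : ∀ a : K, ev a = a.1 w₀ := fun a => rfl
  -- the automorphism induced by `S`
  have hSS : S.toLinearMap * S.toLinearMap = 1 := LinearMap.ext fun v => hS2 v
  let φ₀ : K ≃+* K :=
    { toFun := fun a => ⟨S.toLinearMap * a.1 * S.toLinearMap, hSK a.1 a.2⟩
      invFun := fun a => ⟨S.toLinearMap * a.1 * S.toLinearMap, hSK a.1 a.2⟩
      left_inv := fun a => Subtype.ext (LinearMap.ext fun v => by
        simp [Module.End.mul_apply, hS2])
      right_inv := fun a => Subtype.ext (LinearMap.ext fun v => by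
        simp [Module.End.mul_apply, hS2])
      map_mul' := fun a b => Subtype.ext (LinearMap.ext fun v => by
        simp [Module.End.mul_apply, hS2])
      map_add' := fun a b => Subtype.ext (LinearMap.ext fun v => by
        simp [Module.End.mul_apply]) }
  have hφS : ∀ (a : K) (v : V), (φ₀ a).1 v = S (a.1 (S v)) := fun a v => rfl
  have hevS : ∀ a : K, S (ev a) = ev (φ₀ a) := fun a => by
    rw [hev_apply, hev_apply, hφS, hSw₀]
  have hφne : φ₀ ≠ 1 := by
    obtain ⟨a, ha, hna⟩ := hne
    intro h1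
    exact hna (congrArg Subtype.val (RingEquiv.congr_fun h1 ⟨a, ha⟩))
  have hev_mul : ∀ a b : K, ev (a * b) = a.1 (ev b) := fun a b => rfl
  have hφ2 : φ₀ * φ₀ = 1 := RingEquiv.ext fun a => φ₀.left_inv a
  let Γ : Subgroup (RingAut K) := Subgroup.zpowers φ₀
  have hord : orderOf (φ₀ : RingAut K) = 2 :=
    orderOf_eq_prime (by rw [pow_two]; exact hφ2) hφne
  have : Finite (RingAut K) :=
    Finite.of_injective (fun e : K ≃+* K => (e : K → K)) DFunLike.coe_injective
  have : Fintype Γ := Fintype.ofFinite _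
  have hΓcard : Fintype.card Γ = 2 := by
    rw [← Nat.card_eq_fintype_card, Nat.card_zpowers, hord]
  let γ : Γ := ⟨φ₀, Subgroup.mem_zpowers _⟩
  have hΓuniv : (Finset.univ : Finset Γ) = {1, γ} := by
    refine (Finset.eq_univ_of_card _ ?_).symm
    rw [hΓcard, Finset.card_pair]
    exact fun h1 => hφne (congrArg Subtype.val h1).symm
  let F := FixedPoints.subfield Γ K
  have : Fintype F := Fintype.ofFinite _
  have : Fintype K := Fintype.ofFinite _
  have hrank : Module.finrank F K = 2 := by
    rw [← hΓcard]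
    exact FixedPoints.finrank_eq_card Γ K
  have : IsGalois F K := IsGalois.of_fixed_field K Γ
  have hnorm : ∀ a : K, algebraMap F K (Algebra.norm F a) = a * φ₀ a := by
    intro a
    rw [Algebra.norm_eq_prod_automorphisms,
      ← Fintype.prod_equiv (FixedPoints.toAlgAutMulEquiv Γ K).toEquiv
        (fun g : Γ => g • a) _ (fun g => rfl), hΓuniv, Finset.prod_pair]
    · rw [one_smul]
      rfl
    · exact fun h1 => hφne (congrArg Subtype.val h1).symm
  have hnorm1 : ∀ a : K, Algebra.norm F a = 1 ↔ ∀ v, a.1 (S (a.1 (S v))) = v := by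
    intro a
    constructor
    · intro h1 v
      have h2 := hnorm a
      rw [h1, map_one] at h2
      have h3 := congrArg (fun c : K => c.1 v) h2.symm
      exact h3
    · intro h1
      apply (algebraMap F K).injective
      rw [hnorm, map_one]
      exact Subtype.ext (LinearMap.ext fun v => h1 v)
  have hgγ : ∀ b : K, (FixedPoints.toAlgAutMulEquiv Γ K γ) b = φ₀ b := fun b => rfl
  -- all norm-one elements, and `S`, lie in `H`
  have hfix : ∀ a : K, (∀ v, a.1 (S (a.1 (S v))) = v) →
      ∃ h ∈ H, ∀ v, h v = a.1 (S v) := by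
    intro a ha
    obtain ⟨b, hb0, hb⟩ : ∃ b : K, b ≠ 0 ∧ a * φ₀ b = b := by
      have haφ : a * φ₀ a = 1 := Subtype.ext (LinearMap.ext fun v => ha v)
      by_cases h1 : (1 + a : K) = 0
      · obtain ⟨c, hc, hnc⟩ := hne
        refine ⟨⟨c, hc⟩ - φ₀ ⟨c, hc⟩, fun h2 => hnc ?_, ?_⟩
        · exact (congrArg Subtype.val (sub_eq_zero.1 h2)).symm
        · have ha1 : a = -1 := (eq_neg_of_add_eq_zero_right h1)
          rw [ha1, map_sub, show φ₀ (φ₀ ⟨c, hc⟩) = ⟨c, hc⟩ from φ₀.left_inv _]
          ring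
      · refine ⟨1 + a, h1, ?_⟩
        rw [map_add, map_one, mul_add, mul_one, haφ, add_comm]
    have hv0 : ev b ≠ 0 := fun h2 => hb0 (ev.injective (by rw [h2, map_zero]))
    obtain ⟨h, hh, hh1, hhv⟩ := hstab (ev b) hv0
    refine ⟨h, hh, ?_⟩
    obtain ⟨a', ha', -, hA | hA⟩ := hH h hh
    · exfalso
      apply hh1
      have h2 : a' * b.1 = b.1 := by
        have h3 : (⟨a', ha'⟩ * b : K) = b := by
          apply ev.injective
          rw [hev_apply, hev_apply]
          exact (hA _).symm.trans hhv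
        exact congrArg Subtype.val h3
      have h4 : (⟨a', ha'⟩ : K) = 1 := by
        have h5 : (⟨a', ha'⟩ : K) * b = 1 * b := by
          rw [one_mul]
          exact Subtype.ext h2
        exact mul_right_cancel₀ hb0 h5
      refine LinearEquiv.ext fun v => ?_
      rw [hA v]
      exact congrArg (fun c : K => c.1 v) h4
    · intro v
      rw [hA v]
      have h3 : (⟨a', ha'⟩ * φ₀ b : K) = b := by
        apply ev.injective
        have h4 : ev (⟨a', ha'⟩ * φ₀ b) = a' (ev (φ₀ b)) := rfl
        rw [h4, ← hevS]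
        exact (hA _).symm.trans hhv
      have h5 : (⟨a', ha'⟩ : K) = a := by
        refine mul_right_cancel₀ ?_ (h3.trans hb.symm)
        exact fun h6 => hb0 (φ₀.injective (by rw [h6, map_zero]))
      exact congrArg (fun c : K => c.1 (S v)) h5
  refine ⟨F, K, inferInstance, inferInstance, inferInstance, inferInstance, inferInstance,
    ev.symm, hrank, fun f => ?_⟩
  constructor
  · rintro ⟨h, hh, hhf⟩
    obtain ⟨a, ha, han, hA | hA⟩ := hH h hh
    · refine ⟨⟨a, ha⟩, AlgEquiv.refl, (hnorm1 _).2 han, fun v => ?_⟩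
      rw [← hhf, hA]
      apply ev.injective
      rw [AddEquiv.apply_symm_apply]
      obtain ⟨b, rfl⟩ := ev.surjective v
      rw [AddEquiv.symm_apply_apply, hev_mul]
      rfl
    · refine ⟨⟨a, ha⟩, FixedPoints.toAlgAutMulEquiv Γ K γ, (hnorm1 _).2 han, fun v => ?_⟩
      rw [← hhf, hA]
      apply ev.injective
      rw [AddEquiv.apply_symm_apply]
      obtain ⟨b, rfl⟩ := ev.surjective v
      rw [AddEquiv.symm_apply_apply, hevS, hev_mul, hgγ]
  · rintro ⟨a, φ, han, hf⟩
    have han' := (hnorm1 a).1 han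
    have hone : ∀ v, (1 : K).1 (S ((1 : K).1 (S v))) = v := fun v => hS2 v
    obtain ⟨hA, hAm, hAe⟩ := hfix a han'
    obtain ⟨hB, hBm, hBe⟩ := hfix 1 hone
    obtain ⟨g, rfl⟩ := (FixedPoints.toAlgAutMulEquiv Γ K).surjective φ
    have hfv : ∀ v, f v = ev (a * g • ev.symm v) := fun v => by
      rw [← ev.symm.injective.eq_iff, hf v, AddEquiv.symm_apply_apply]
      rfl
    have hg : g = 1 ∨ g = γ := by
      have := Finset.mem_univ g
      rw [hΓuniv, Finset.mem_insert, Finset.mem_singleton] at this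
      exact this
    rcases hg with rfl | rfl
    · refine ⟨hA * hB, mul_mem hAm hBm, fun v => ?_⟩
      rw [LinearEquiv.mul_apply, hBe, hAe, hfv]
      obtain ⟨b, rfl⟩ := ev.surjective v
      rw [AddEquiv.symm_apply_apply, one_smul]
      show a.1 (S (S (ev b))) = ev (a * b)
      rw [hS2]
      rfl
    · refine ⟨hA, hAm, fun v => ?_⟩
      rw [hAe, hfv]
      obtain ⟨b, rfl⟩ := ev.surjective v
      rw [AddEquiv.symm_apply_apply, hevS]
      rfl

end Cfsg.Agent.BinaryAffine
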