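import Mathlib.FieldTheory.Finite.Basic
import Mathlib.RingTheory.IntegralDomain
import Mathlib.LinearAlgebra.Dual.Lemmas
import Cfsg.Agent.BinaryAffine.Orbit
import Cfsg.Agent.BinaryAffine.Finish

/-!
Binary irreducible linear groups in odd characteristic are `±1` on a line, or the full orthogonal
group of an anisotropic plane.
-/

set_option autoImplicit false

namespace Cfsg.Agent.BinaryAffine

variable {p : ℕ} [Fact p.Prime] {V : Type} [AddCommGroup V] [Module (ZMod p) V] [Finite V]

/-- The commutant. -/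
def comm (H : Subgroup (V ≃ₗ[ZMod p] V)) : Subalgebra (ZMod p) (Module.End (ZMod p) V) where
  carrier := {f | Commutes H f}
  mul_mem' {f g} hf hg h hh x := by
    rw [Module.End.mul_apply, Module.End.mul_apply, hg h hh, hf h hh]
  add_mem' {f g} hf hg h hh x := by
    rw [LinearMap.add_apply, LinearMap.add_apply, hf h hh, hg h hh, map_add]
  algebraMap_mem' r h _ x := by simp [Module.algebraMap_end_apply]

/-- The fixed vectors of a point stabiliser form a non-degenerate space for an invariant form. -/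
theorem exists_projection {H : Subgroup (V ≃ₗ[ZMod p] V)} (hp : ¬ p ∣ Nat.card H)
    {B : V →ₗ[ZMod p] V →ₗ[ZMod p] ZMod p} (hinv : ∀ h ∈ H, ∀ x y, B (h x) (h y) = B x y)
    (v w : V) : ∃ z, (∀ h ∈ H, h v = v → h z = z) ∧
      ∀ x, (∀ h ∈ H, h v = v → h x = x) → B x z = B x w := by
  classical
  let S : Subgroup (V ≃ₗ[ZMod p] V) := H ⊓ MulAction.stabilizer (V ≃ₗ[ZMod p] V) v
  have : Fintype S := Fintype.ofFinite _
  have hS : ∀ {h}, h ∈ S ↔ h ∈ H ∧ h v = v := fun {h} => by
    rw [Subgroup.mem_inf, MulAction.mem_stabilizer_iff]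
    rfl
  have hn : (Nat.card S : ZMod p) ≠ 0 := fun h0 =>
    hp (((ZMod.natCast_eq_zero_iff _ _).1 h0).trans (Subgroup.card_dvd_of_le inf_le_left))
  refine ⟨(Nat.card S : ZMod p)⁻¹ • ∑ s : S, s.1 w, fun h hh hv => ?_, fun x hx => ?_⟩
  · rw [map_smul, map_sum]
    congr 1
    refine Fintype.sum_equiv (Equiv.mulLeft (⟨h, hS.2 ⟨hh, hv⟩⟩ : S)) _ _ fun s => ?_
    rfl
  · rw [map_smul, map_sum]
    have : ∀ s : S, B x (s.1 w) = B x w := fun s => by
      obtain ⟨hs, hsv⟩ := hS.1 s.2
      conv_lhs => rw [← hx s.1 hs hsv]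
      exact hinv s.1 hs x w
    rw [Finset.sum_congr rfl fun s _ => this s, Finset.sum_const, Finset.card_univ,
      ← Nat.card_eq_fintype_card, nsmul_eq_mul, smul_eq_mul, ← mul_assoc, inv_mul_cancel₀ hn,
      one_mul]

/-- The classification in odd characteristic. -/
theorem odd_case [Nontrivial V] (hp2 : p ≠ 2) {H : Subgroup (V ≃ₗ[ZMod p] V)} (hbin : Bin H)
    (hirr : Irr H) :
    (Nat.card V = p ∧ Nat.card H ≤ 2) ∨
    ∃ (F E : Type) (_ : Field F) (_ : Fintype F) (_ : Field E) (_ : Fintype E) (_ : Algebra F E)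
      (e : V ≃+ E), Module.finrank F E = 2 ∧
      ∀ f : V → V, (∃ h ∈ H, ∀ v, h v = f v) ↔
        ∃ (a : E) (φ : E ≃ₐ[F] E), Algebra.norm F a = 1 ∧ ∀ v, e (f v) = a * φ (e v) := by
  classical
  have hp := not_dvd_card hbin hp2
  obtain ⟨v₀, hv₀⟩ := exists_ne (0 : V)
  obtain ⟨B, hsymm, hinv, hnd, hadj, hcom, -⟩ := orbit_data hbin hirr hp hv₀
  have hE : ∀ v : V, v ≠ 0 → ∀ w, (∀ h ∈ H, h v = v → h w = w) → ∃ f : comm H, f.1 v = w := by
    intro v hv w hw
    obtain ⟨-, -, -, -, -, -, h6⟩ := orbit_data hbin hirr hp hv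
    obtain ⟨f, hf, hfv⟩ := h6 w hw
    exact ⟨⟨f, hf⟩, hfv⟩
  -- the commutant is a field
  let E := comm H
  let : CommRing E :=
    { (inferInstance : Ring E) with
      mul_comm := fun a b => Subtype.ext (LinearMap.ext fun x => hcom a.1 b.1 a.2 b.2 x) }
  have hker : ∀ f : E, f ≠ 0 → ∀ x, f.1 x = 0 → x = 0 := by
    intro f hf x hx
    rcases hirr (LinearMap.ker f.1) (fun h hh y hy => by
      rw [LinearMap.mem_ker] at hy ⊢
      rw [f.2 h hh, hy, map_zero]) with h1 | h1
    · rw [← LinearMap.mem_ker, h1] at hx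
      exact hx
    · exact absurd (Subtype.ext (LinearMap.ker_eq_top.1 h1)) hf
  have : Nontrivial E := ⟨⟨0, 1, fun he => hv₀ (by
    simpa using (congrArg (fun a : E => a.1 v₀) he).symm)⟩⟩
  have : Finite E := Finite.of_injective (fun a : E => (a.1 : V → V))
    fun a b h => Subtype.ext (DFunLike.coe_injective h)
  have : NoZeroDivisors E := ⟨fun {a b} hab => by
    by_contra hcon
    push Not at hcon
    refine hcon.2 (Subtype.ext (LinearMap.ext fun x => ?_))
    refine hker a hcon.1 _ ?_
    exact congrArg (fun c : E => c.1 x) hab⟩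
  have : IsDomain E := NoZeroDivisors.to_isDomain E
  let : Field E := (Finite.isField_of_domain E).toField
  have hfix : ∀ (f : E) (v : V), ∀ h ∈ H, h v = v → h (f.1 v) = f.1 v := fun f v h hh hv => by
    rw [← f.2 h hh, hv]
  -- no vector is orthogonal to all its multiples
  have hanis : ∀ v : V, v ≠ 0 → ∃ f : E, B (f.1 v) v ≠ 0 := by
    intro v hv
    by_contra hcon
    push Not at hcon
    refine hv (hnd v fun y => ?_)
    obtain ⟨z, hz, hzB⟩ := exists_projection hp hinv v y
    obtain ⟨f, hf⟩ := hE v hv z hz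
    rw [← hzB v fun h _ hh => hh, ← hf, hsymm]
    exact hcon f
  let τ : E →ₗ[ZMod p] ZMod p :=
    { toFun := fun f => B (f.1 v₀) v₀
      map_add' := fun a b => by
        rw [show (a + b).1 v₀ = a.1 v₀ + b.1 v₀ from rfl, map_add, LinearMap.add_apply]
      map_smul' := fun r a => by
        rw [show (r • a).1 v₀ = r • a.1 v₀ from rfl, map_smul, LinearMap.smul_apply]
        rfl }
  have hτ : ∀ q : E, (∀ t : E, τ (t * q) = 0) → q = 0 := by
    intro q hq
    by_contra hne
    obtain ⟨f, hf⟩ := hanis v₀ hv₀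
    apply hf
    have h1 := hq (f * q⁻¹)
    rwa [inv_mul_cancel_right₀ hne] at h1
  have hτ' : ∀ q q' : E, (∀ t : E, τ (t * q) = τ (t * q')) → q = q' := fun q q' h =>
    sub_eq_zero.1 (hτ _ fun t => by rw [mul_sub, map_sub, h t, sub_self])
  have hQ : ∀ v : V, ∃ q : E, ∀ t : E, τ (t * q) = B (t.1 v) v := by
    intro v
    let Φ : E →ₗ[ZMod p] Module.Dual (ZMod p) E := LinearMap.mk₂ (ZMod p)
      (fun q t : E => τ (t * q))
      (fun a b t => by rw [mul_add, map_add])
      (fun r a t => by rw [mul_smul_comm, map_smul])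
      (fun q a b => by rw [add_mul, map_add])
      (fun r q a => by rw [smul_mul_assoc, map_smul])
    have hinjΦ : Function.Injective Φ := fun a b hab =>
      hτ' a b fun t => LinearMap.congr_fun hab t
    have hsurjΦ : Function.Surjective Φ :=
      (LinearMap.injective_iff_surjective_of_finrank_eq_finrank
        (Subspace.dual_finrank_eq).symm).1 hinjΦ
    let L : Module.Dual (ZMod p) E :=
      { toFun := fun t => B (t.1 v) v
        map_add' := fun a b => by
          rw [show (a + b).1 v = a.1 v + b.1 v from rfl, map_add, LinearMap.add_apply]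
        map_smul' := fun r a => by
          rw [show (r • a).1 v = r • a.1 v from rfl, map_smul, LinearMap.smul_apply]
          rfl }
    obtain ⟨q, hq⟩ := hsurjΦ L
    exact ⟨q, fun t => LinearMap.congr_fun hq t⟩
  have hB2 : ∀ (x y : E) (v w : V), B (x.1 v) (y.1 w) = B ((x * y).1 v) w := by
    intro x y v w
    rw [← hadj y.1 y.2, mul_comm x y]
    rfl
  have hmulapp : ∀ (x y : E) (v : V), (x * y).1 v = x.1 (y.1 v) := fun x y v => rfl
  by_cases hA : ∀ w, ∃ f : E, f.1 v₀ = w
  · -- one-dimensional over the commutant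
    left
    have hsq : ∀ h ∈ H, h = 1 ∨ h.toLinearMap = -LinearMap.id := by
      intro h hh
      obtain ⟨a, ha⟩ := hA (h v₀)
      have hlin : ∀ g ∈ H, ∀ b : E, b.1 v₀ = g v₀ → ∀ x, g x = b.1 x := by
        intro g hg b hb x
        obtain ⟨c, rfl⟩ := hA x
        rw [← c.2 g hg, ← hb, ← hmulapp, ← hmulapp, mul_comm]
      obtain ⟨s, hs, hs1, hs2⟩ := exists_swap hbin (a := v₀) (b := h v₀) ⟨h, hh, rfl⟩
      have e1 : ∀ x, s x = a.1 x := hlin s hs a (ha.trans hs1.symm)
      have e2 : a * a = 1 := by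
        apply Subtype.ext
        refine LinearMap.ext fun x => ?_
        obtain ⟨c, rfl⟩ := hA x
        have h3 : a.1 (a.1 v₀) = v₀ := by rw [ha, ← e1, hs2]
        show a.1 (a.1 (c.1 v₀)) = c.1 v₀
        rw [hcom a.1 c.1 a.2 c.2, hcom a.1 c.1 a.2 c.2, h3]
      rcases mul_self_eq_one_iff.1 e2 with rfl | rfl
      · exact Or.inl (LinearEquiv.ext fun x => hlin h hh 1 ha x)
      · exact Or.inr (LinearMap.ext fun x => hlin h hh (-1) ha x)
    refine ⟨?_, ?_⟩
    · have htop : Submodule.span (ZMod p) {v₀} = ⊤ := by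
        refine (hirr _ fun h hh x hx => ?_).resolve_left fun hb => hv₀ ?_
        · rcases hsq h hh with rfl | hneg
          · exact hx
          · rw [show h x = -x from LinearMap.congr_fun hneg x]
            exact Submodule.neg_mem _ hx
        · rwa [Submodule.span_singleton_eq_bot] at hb
      rw [← Nat.card_congr ((LinearEquiv.toSpanNonzeroSingleton (ZMod p) V v₀ hv₀).trans
        ((LinearEquiv.ofEq _ _ htop).trans Submodule.topEquiv)).toEquiv, Nat.card_zmod]
    · refine le_trans (Nat.card_le_card_of_injective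
        (fun h : H => decide ((h : V ≃ₗ[ZMod p] V) = 1)) fun h k hk => ?_) ?_
      · apply Subtype.ext
        simp only [decide_eq_decide] at hk
        rcases hsq h.1 h.2 with h1 | h1
        · rw [h1, hk.1 h1]
        · rcases hsq k.1 k.2 with k1 | k1
          · rw [k1, hk.2 k1]
          · exact LinearEquiv.toLinearMap_injective (h1.trans k1.symm)
      · rw [Nat.card_eq_fintype_card, Fintype.card_bool]
  · push Not at hA
    obtain ⟨w₀, hw₀⟩ := hA
    obtain ⟨z, hz, hzB⟩ := exists_projection hp hinv v₀ w₀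
    obtain ⟨f₀, hf₀⟩ := hE v₀ hv₀ z hz
    set v₁ := w₀ - z with hv₁def
    have hv₁ : v₁ ≠ 0 := fun h0 => hw₀ f₀ (by rw [hf₀, ← sub_eq_zero.1 h0])
    have horth : ∀ x : E, B (x.1 v₀) v₁ = 0 := fun x => by
      rw [hv₁def, map_sub, hzB _ (fun h hh hv => hfix x v₀ h hh hv), sub_self]
    obtain ⟨q, hq⟩ := hQ v₁
    have hnorm2 : ∀ a b c d : E, ∀ t : E,
        B (t.1 (a.1 v₀ + b.1 v₁)) (c.1 v₀ + d.1 v₁) = τ (t * (a * c + q * (b * d))) := by
      intro a b c d t
      simp only [map_add, LinearMap.add_apply, ← hmulapp, hB2, horth]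
      rw [hsymm (((t * b) * c).1 v₁) v₀, ← hadj _ ((t * b) * c).2, horth, ← hq, mul_add,
        map_add, add_zero, zero_add]
      show τ _ + τ _ = _
      rw [show t * b * d * q = t * (q * (b * d)) by ring, mul_assoc]
    have hvan : ∀ a b : E, a * a + q * (b * b) = 0 → a.1 v₀ + b.1 v₁ = 0 := by
      intro a b hab
      by_contra hne
      obtain ⟨t, ht⟩ := hanis _ hne
      rw [hnorm2, hab, mul_zero, map_zero] at ht
      exact ht rfl
    have huniq : ∀ a b : E, a.1 v₀ + b.1 v₁ = 0 → a = 0 ∧ b = 0 := by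
      intro a b hab
      have ha : a = 0 := hτ a fun t => by
        have h2 := hnorm2 1 0 a b t
        rw [hab, map_zero, one_mul, zero_mul, mul_zero, add_zero] at h2
        exact h2.symm
      refine ⟨ha, ?_⟩
      rw [ha, show (0 : E).1 v₀ = 0 from rfl, zero_add] at hab
      by_contra hb
      exact hv₁ (hker b hb _ hab)
    have hspan : ∀ x, ∃ a b : E, a.1 v₀ + b.1 v₁ = x := by
      by_contra hcon
      push Not at hcon
      obtain ⟨w, hw⟩ := hcon
      obtain ⟨z₀, hz₀, hz₀B⟩ := exists_projection hp hinv v₀ w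
      obtain ⟨a₀, ha₀⟩ := hE v₀ hv₀ z₀ hz₀
      obtain ⟨z₁, hz₁, hz₁B⟩ := exists_projection hp hinv v₁ (w - z₀)
      obtain ⟨a₁, ha₁⟩ := hE v₁ hv₁ z₁ hz₁
      set v₂ := w - z₀ - z₁ with hv₂def
      have hv₂ : v₂ ≠ 0 := fun h0 => hw a₀ a₁ (by
        rw [ha₀, ha₁]
        rw [hv₂def, sub_eq_zero] at h0
        rw [← h0]
        abel)
      have h02 : ∀ x : E, B (x.1 v₀) v₂ = 0 := fun x => by
        rw [hv₂def, map_sub, map_sub, hz₀B _ (fun h hh hv => hfix x v₀ h hh hv), sub_self,
          zero_sub, ← ha₁, hB2, horth, neg_zero]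
      have h12 : ∀ x : E, B (x.1 v₁) v₂ = 0 := fun x => by
        rw [hv₂def, map_sub, hz₁B _ (fun h hh hv => hfix x v₁ h hh hv), sub_self]
      obtain ⟨r, hr⟩ := hQ v₂
      have hq0 : q ≠ 0 := by
        intro h0
        obtain ⟨t, ht⟩ := hanis v₁ hv₁
        rw [← hq, h0, mul_zero, map_zero] at ht
        exact ht rfl
      have : Fintype E := Fintype.ofFinite _
      have hodd : Fintype.card E % 2 = 1 := by
        have hch : ringChar E = p := by
          have : CharP E p := charP_of_injective_algebraMap (algebraMap (ZMod p) E).injective p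
          exact ringChar.eq E p
        exact FiniteField.odd_card_of_char_ne_two (by rw [hch]; exact hp2)
      obtain ⟨x, y, hxy⟩ := FiniteField.exists_root_sum_quadratic
        (f := (Polynomial.X ^ 2 : Polynomial E))
        (g := Polynomial.C q * Polynomial.X ^ 2 + Polynomial.C r)
        (Polynomial.degree_X_pow 2)
        (by rw [Polynomial.degree_add_C (by
              rw [Polynomial.degree_C_mul_X_pow 2 hq0]; decide),
              Polynomial.degree_C_mul_X_pow 2 hq0]; rfl) hodd
      simp only [Polynomial.eval_pow, Polynomial.eval_X, Polynomial.eval_add,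
        Polynomial.eval_mul, Polynomial.eval_C] at hxy
      set u := x.1 v₀ + y.1 v₁ + v₂ with hu
      have hB_u : ∀ t : E, B (t.1 u) u = τ (t * (x * x + q * (y * y) + r)) := by
        intro t
        have e1 := hnorm2 x y x y t
        have e2 : B (t.1 (x.1 v₀ + y.1 v₁)) v₂ = 0 := by
          rw [map_add, map_add, LinearMap.add_apply, ← hmulapp, ← hmulapp, h02, h12, add_zero]
        have e3 : B (t.1 v₂) (x.1 v₀ + y.1 v₁) = 0 := by
          rw [hadj _ t.2, hsymm, e2]
        rw [hu, map_add (t.1) (x.1 v₀ + y.1 v₁) v₂, map_add B, LinearMap.add_apply,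
          map_add (B (t.1 (x.1 v₀ + y.1 v₁))) (x.1 v₀ + y.1 v₁) v₂,
          map_add (B (t.1 v₂)) (x.1 v₀ + y.1 v₁) v₂, e1, e2, e3, ← hr,
          zero_add, add_zero, ← map_add]
        congr 1
        ring
      have hu0 : u ≠ 0 := by
        intro h0
        obtain ⟨t, ht⟩ := hanis v₂ hv₂
        apply ht
        have e : B (t.1 v₂) u = B (t.1 v₂) v₂ := by
          rw [hu, map_add, map_add, hadj _ t.2, hsymm v₂, ← hmulapp, h02, hadj _ t.2, hsymm v₂,
            ← hmulapp, h12, zero_add, zero_add]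
        rw [← e, h0, map_zero]
      obtain ⟨t, ht⟩ := hanis u hu0
      apply ht
      rw [hB_u, show x * x + q * (y * y) + r = x ^ 2 + (q * y ^ 2 + r) by ring, hxy, mul_zero,
        map_zero]
    -- two-dimensional over the commutant
    right
    let Φ₀ : E × E →ₗ[ZMod p] V :=
      { toFun := fun ab => ab.1.1 v₀ + ab.2.1 v₁
        map_add' := fun a b => by
          show (a.1 + b.1).1 v₀ + (a.2 + b.2).1 v₁ = _
          rw [show (a.1 + b.1).1 v₀ = a.1.1 v₀ + b.1.1 v₀ from rfl,
            show (a.2 + b.2).1 v₁ = a.2.1 v₁ + b.2.1 v₁ from rfl]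
          abel
        map_smul' := fun r a => by
          show r • a.1.1 v₀ + r • a.2.1 v₁ = r • (a.1.1 v₀ + a.2.1 v₁)
          rw [smul_add] }
    let Φ : (E × E) ≃ₗ[ZMod p] V := LinearEquiv.ofBijective Φ₀ ⟨by
      rw [← LinearMap.ker_eq_bot, LinearMap.ker_eq_bot']
      rintro ⟨a, b⟩ hab
      obtain ⟨rfl, rfl⟩ := huniq a b hab
      rfl, fun x => by
      obtain ⟨a, b, hab⟩ := hspan x
      exact ⟨(a, b), hab⟩⟩
    have hΦ : ∀ a b : E, Φ (a, b) = a.1 v₀ + b.1 v₁ := fun a b => rfl
    let δ : E := -q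
    let mk : E → E → (E × E →ₗ[ZMod p] E × E) := fun a b =>
      { toFun := fun cd => (a * cd.1 + δ * b * cd.2, b * cd.1 + a * cd.2)
        map_add' := fun x y => by ext : 1 <;> simp <;> ring
        map_smul' := fun r x => by ext : 1 <;> simp [mul_smul_comm] }
    let M : E → E → Module.End (ZMod p) V := fun a b =>
      Φ.toLinearMap ∘ₗ mk a b ∘ₗ Φ.symm.toLinearMap
    have M_apply : ∀ a b c d : E, M a b (Φ (c, d)) = Φ (a * c + δ * b * d, b * c + a * d) := by
      intro a b c d
      show Φ (mk a b (Φ.symm (Φ (c, d)))) = _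
      rw [LinearEquiv.symm_apply_apply]
      rfl
    have M_mul : ∀ a b c d : E, M a b * M c d = M (a * c + δ * b * d) (a * d + b * c) := by
      intro a b c d
      refine LinearMap.ext fun v => ?_
      obtain ⟨⟨x, y⟩, rfl⟩ := Φ.surjective v
      rw [Module.End.mul_apply, M_apply, M_apply, M_apply]
      congr 2 <;> ring
    have M_add : ∀ a b c d : E, M a b + M c d = M (a + c) (b + d) := by
      intro a b c d
      refine LinearMap.ext fun v => ?_
      obtain ⟨⟨x, y⟩, rfl⟩ := Φ.surjective v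
      rw [LinearMap.add_apply, M_apply, M_apply, M_apply, ← map_add]
      congr 1
      ext : 1 <;> simp <;> ring
    have M_alg : ∀ r : ZMod p, M (algebraMap (ZMod p) E r) 0 = algebraMap (ZMod p) _ r := by
      intro r
      refine LinearMap.ext fun v => ?_
      obtain ⟨⟨x, y⟩, rfl⟩ := Φ.surjective v
      rw [M_apply, Module.algebraMap_end_apply, ← map_smul]
      congr 1
      ext : 1 <;> simp [Algebra.smul_def]
    let K : Subalgebra (ZMod p) (Module.End (ZMod p) V) :=
      { carrier := {T | ∃ a b : E, T = M a b}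
        mul_mem' := by
          rintro _ _ ⟨a, b, rfl⟩ ⟨c, d, rfl⟩
          exact ⟨_, _, M_mul a b c d⟩
        add_mem' := by
          rintro _ _ ⟨a, b, rfl⟩ ⟨c, d, rfl⟩
          exact ⟨_, _, M_add a b c d⟩
        algebraMap_mem' := fun r => ⟨_, _, (M_alg r).symm⟩ }
    let flip : (E × E) ≃ₗ[ZMod p] (E × E) :=
      (LinearEquiv.refl (ZMod p) E).prodCongr (LinearEquiv.neg (ZMod p))
    let S : V ≃ₗ[ZMod p] V := (Φ.symm.trans flip).trans Φ
    have S_apply : ∀ c d : E, S (Φ (c, d)) = Φ (c, -d) := by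
      intro c d
      show Φ (flip (Φ.symm (Φ (c, d)))) = _
      rw [LinearEquiv.symm_apply_apply]
      rfl
    have hSMS : ∀ a b : E, S.toLinearMap * M a b * S.toLinearMap = M a (-b) := by
      intro a b
      refine LinearMap.ext fun v => ?_
      obtain ⟨⟨x, y⟩, rfl⟩ := Φ.surjective v
      rw [Module.End.mul_apply, Module.End.mul_apply]
      show S (M a b (S (Φ (x, y)))) = _
      rw [S_apply, M_apply, S_apply, M_apply]
      congr 2 <;> ring
    have h10 : Φ ((1 : E), (0 : E)) = v₀ := by rw [hΦ]; simp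
    have hch : (2 : E) ≠ 0 := by
      have : CharP E p := charP_of_injective_algebraMap (algebraMap (ZMod p) E).injective p
      intro h2
      have h3 : ((2 : ℕ) : E) = 0 := by exact_mod_cast h2
      rw [CharP.cast_eq_zero_iff E p] at h3
      exact hp2 ((Nat.prime_dvd_prime_iff_eq Fact.out Nat.prime_two).1 h3)
    have hinjK : ∀ a b c d : E, M a b (Φ (c, d)) = 0 → M a b = 0 ∨ Φ (c, d) = 0 := by
      intro a b c d h0
      rw [M_apply, LinearEquiv.map_eq_zero_iff, Prod.mk_eq_zero] at h0
      by_cases hn : a * a + q * (b * b) = 0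
      · obtain ⟨rfl, rfl⟩ := huniq a b (hvan a b hn)
        left
        refine LinearMap.ext fun v => ?_
        obtain ⟨⟨x, y⟩, rfl⟩ := Φ.surjective v
        rw [M_apply, LinearMap.zero_apply]
        simp
      · right
        have hc : (a * a + q * (b * b)) * c = 0 := by
          linear_combination a * h0.1 - δ * b * h0.2
        have hd : (a * a + q * (b * b)) * d = 0 := by
          linear_combination a * h0.2 - b * h0.1
        rw [mul_eq_zero] at hc hd
        rw [hc.resolve_left hn, hd.resolve_left hn]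
        exact map_zero Φ
    refine finish H K S v₀ hv₀ ?_ ?_ ?_ ?_ ?_ ?_ ?_ ?_ ?_
    · rintro _ ⟨a, b, rfl⟩ _ ⟨c, d, rfl⟩
      rw [M_mul, M_mul]
      congr 1 <;> ring
    · rintro _ ⟨a, b, rfl⟩ v hv
      obtain ⟨⟨c, d⟩, rfl⟩ := Φ.surjective v
      exact hinjK a b c d hv
    · intro v
      obtain ⟨⟨c, d⟩, rfl⟩ := Φ.surjective v
      refine ⟨M c d, ⟨c, d, rfl⟩, ?_⟩
      rw [← h10, M_apply]
      simp
    · intro v
      obtain ⟨⟨c, d⟩, rfl⟩ := Φ.surjective v
      rw [S_apply, S_apply, neg_neg]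
    · rw [← h10, S_apply, neg_zero]
    · rintro _ ⟨a, b, rfl⟩
      exact ⟨a, -b, hSMS a b⟩
    · refine ⟨M 0 1, ⟨0, 1, rfl⟩, fun he => ?_⟩
      rw [hSMS] at he
      have h1 := LinearMap.congr_fun he (Φ (1, 0))
      rw [M_apply, M_apply, Φ.injective.eq_iff, Prod.ext_iff] at h1
      have h2 : (-1 : E) = 1 := by simpa using h1.2
      exact hch (by linear_combination -h2)
    · intro h hh
      obtain ⟨a, b, hab⟩ := hspan (h v₀)
      obtain ⟨c, d, hcd⟩ := hspan (h v₁)
      have hh_apply : ∀ x y : E, h (Φ (x, y)) = Φ (x * a + y * c, x * b + y * d) := by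
        intro x y
        rw [hΦ, hΦ, map_add, ← x.2 h hh, ← y.2 h hh, ← hab, ← hcd]
        simp only [map_add, ← hmulapp]
        rw [show (x * a + y * c).1 v₀ = (x * a).1 v₀ + (y * c).1 v₀ from rfl,
          show (x * b + y * d).1 v₁ = (x * b).1 v₁ + (y * d).1 v₁ from rfl]
        abel
      have e00 : a * a + q * (b * b) = 1 := hτ' _ _ fun t => by
        rw [← hnorm2, hab, t.2 h hh, hinv h hh, mul_one]
        rfl
      have e11 : c * c + q * (d * d) = q := hτ' _ _ fun t => by
        rw [← hnorm2, hcd, t.2 h hh, hinv h hh, hq]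
      have e01 : a * c + q * (b * d) = 0 := hτ' _ _ fun t => by
        rw [← hnorm2, hab, hcd, t.2 h hh, hinv h hh, horth, mul_zero, map_zero]
      set e := a * d - b * c with he
      have hc : c = -(q * b * e) := by
        rw [he]
        linear_combination -c * e00 + a * e01
      have hd : d = a * e := by
        rw [he]
        linear_combination -d * e00 + b * e01
      have he2 : e * e = 1 := by
        have hq0 : q ≠ 0 := fun h0 => by
          obtain ⟨t, ht⟩ := hanis v₁ hv₁
          rw [← hq, h0, mul_zero, map_zero] at ht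
          exact ht rfl
        apply mul_left_cancel₀ hq0
        rw [hc, hd] at e11
        linear_combination e11 - q * e * e * e00
      refine ⟨M a b, ⟨a, b, rfl⟩, fun v => ?_, ?_⟩
      · obtain ⟨⟨x, y⟩, rfl⟩ := Φ.surjective v
        rw [S_apply, M_apply, S_apply, M_apply]
        congr 1
        ext : 1
        · show _ = x
          linear_combination x * e00
        · show _ = y
          linear_combination y * e00
      rcases mul_self_eq_one_iff.1 he2 with h1 | h1
      · left
        intro v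
        obtain ⟨⟨x, y⟩, rfl⟩ := Φ.surjective v
        rw [hh_apply, M_apply, hc, hd, h1]
        congr 2 <;> ring
      · right
        intro v
        obtain ⟨⟨x, y⟩, rfl⟩ := Φ.surjective v
        rw [hh_apply, S_apply, M_apply, hc, hd, h1]
        congr 2 <;> ring
    · intro v hv
      by_contra hcon
      push Not at hcon
      have hall : ∀ x, ∃ f : E, f.1 v = x := fun x => hE v hv x fun h hh hhv => by
        by_cases h1 : h = 1
        · rw [h1]; rfl
        · exact absurd hhv (hcon h hh h1)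
      obtain ⟨f, hf⟩ := hall v₀
      obtain ⟨g, hg⟩ := hall v₁
      have hf0 : f ≠ 0 := fun h0 => hv₀ (by rw [← hf, h0]; rfl)
      have h2 : (-g).1 v₀ + f.1 v₁ = 0 := by
        rw [← hf, ← hg]
        show -(g.1 (f.1 v)) + f.1 (g.1 v) = 0
        rw [hcom g.1 f.1 g.2 f.2 v, neg_add_cancel]
      exact hf0 (huniq _ _ h2).2

end Cfsg.Agent.BinaryAffine
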