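import Cfsg.Agent.BinaryAffine.BlockFacts

/-!
Reflections of a binary linear group in characteristic two: involutions whose commutator space
has half the dimension of a block.  Each non-zero vector lies in the commutator space of at most
one reflection, and two non-commuting reflections generate a block.
-/

set_option autoImplicit false

namespace Cfsg.Agent.BinaryAffine

variable {V : Type} [AddCommGroup V] [Module (ZMod 2) V]

/-- Reflections: involutions with commutator space of half the dimension of a block. -/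
def IsRefl (H : Subgroup (V ≃ₗ[ZMod 2] V)) (u : V ≃ₗ[ZMod 2] V) : Prop :=
  u ∈ H ∧ u * u = 1 ∧ u ≠ 1 ∧ ∃ k, IsBlock H k ∧ 2 * codimFix u = codimFix k

variable {H : Subgroup (V ≃ₗ[ZMod 2] V)}

theorem IsBlock.stabF_eq_of_fx_eq {k k' : V ≃ₗ[ZMod 2] V} (h : Fx k = Fx k') :
    stabF H k = stabF H k' := by
  ext x
  rw [mem_stabF, mem_stabF, h]

variable [Finite V] (hbin : Bin H) (hirr : Irr H)

omit [Finite V] in
theorem IsRefl.two_mul {u k : V ≃ₗ[ZMod 2] V} (hu : IsRefl H u) (hk : IsBlock H k) :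
    2 * codimFix u = codimFix k := by
  obtain ⟨k', hk', h⟩ := hu.2.2.2
  rw [h, hk'.codimFix_eq hk]

omit [Finite V] in
theorem IsRefl.conj {u h : V ≃ₗ[ZMod 2] V} (hu : IsRefl H u) (hh : h ∈ H) :
    IsRefl H (h * u * h⁻¹) := by
  obtain ⟨hu1, hu2, hne, k, hk, hc⟩ := hu
  refine ⟨mul_mem (mul_mem hh hu1) (inv_mem hh), ?_, fun h1 => hne (conj_eq_one_iff.1 h1), k, hk,
    by rw [codimFix_conj, hc]⟩
  rw [show h * u * h⁻¹ * (h * u * h⁻¹) = h * (u * u) * h⁻¹ by group, hu2, mul_one, mul_inv_cancel]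

omit [Finite V] in
theorem IsRefl.im_ne_bot {u : V ≃ₗ[ZMod 2] V} (hu : IsRefl H u) :
    ∃ z ∈ Im u, z ≠ 0 :=
  Submodule.exists_mem_ne_zero_of_ne_bot fun h => hu.2.2.1 (im_eq_bot_iff.1 h)

include hirr

/-- An element of `H` is `1` or has commutator space at least that of a reflection. -/
theorem IsRefl.le_codimFix {u h : V ≃ₗ[ZMod 2] V} (hu : IsRefl H u) (hh : h ∈ H) (hne : h ≠ 1) :
    codimFix u ≤ codimFix h := by
  obtain ⟨k, hk, hc⟩ := hu.2.2.2
  obtain ⟨a, b, hb, hab⟩ := Nat.exists_eq_pow_mul_and_not_dvd (orderOf_pos h).ne' 2 (by decide)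
  have hmono : ∀ n : ℕ, codimFix (h ^ n) ≤ codimFix h := fun n => by
    have := Submodule.finrank_mono (fx_le_pow h n)
    have h1 := codimFix_add h
    have h2 := codimFix_add (h ^ n)
    omega
  rcases Nat.eq_zero_or_pos a with ha | ha
  · rw [ha, pow_zero, one_mul] at hab
    have := hk.min h hh hne (by rw [hab]; exact Nat.odd_iff.2 (by omega))
    omega
  · have h2 : 2 ∣ orderOf h := by
      rw [hab]
      exact Dvd.dvd.mul_right (dvd_pow_self 2 ha.ne') b
    have ho : orderOf (h ^ (orderOf h / 2)) = 2 := orderOf_pow_orderOf_div (orderOf_pos h).ne' h2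
    have := hk.le_two_mul hirr (pow_mem hh (orderOf h / 2)) (sq_eq_one_of_orderOf_eq_two ho)
      (fun h1 => by rw [h1, orderOf_one] at ho; omega)
    have := hmono (orderOf h / 2)
    omega

omit hirr in
/-- An element of odd order fixing the common fixed space of two reflections defines a block. -/
theorem IsRefl.block_of_odd {a b k : V ≃ₗ[ZMod 2] V} (ha : IsRefl H a) (hb : IsRefl H b)
    (hk : k ∈ H) (hk1 : k ≠ 1) (hko : Odd (orderOf k)) (hle : Fx a ⊓ Fx b ≤ Fx k) :
    IsBlock H k ∧ a ∈ stabF H k ∧ b ∈ stabF H k ∧ Fx k = Fx a ⊓ Fx b := by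
  obtain ⟨k₀, hk₀, hca⟩ := ha.2.2.2
  have hcb := hb.two_mul hk₀
  have h1 := hk₀.min k hk hk1 hko
  have h2 := finrank_le_of_inf (Fx a) (Fx b)
  have h3 := Submodule.finrank_mono hle
  have h4 := codimFix_add a
  have h5 := codimFix_add b
  have h6 := codimFix_add k
  have heq : Fx k = Fx a ⊓ Fx b := (Submodule.eq_of_le_of_finrank_le hle (by omega)).symm
  exact ⟨⟨hk, hk1, hko, fun k' hk' h7 h8 => le_trans (by omega) (hk₀.min k' hk' h7 h8)⟩,
    ⟨ha.1, heq ▸ inf_le_left⟩, ⟨hb.1, heq ▸ inf_le_right⟩, heq⟩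

/-- Every reflection lies in a block. -/
theorem IsRefl.exists_block {u : V ≃ₗ[ZMod 2] V} (hu : IsRefl H u) :
    ∃ k, IsBlock H k ∧ u ∈ stabF H k := by
  obtain ⟨g, hg, k, hk, hk1, hko, hle⟩ :=
    exists_dihedral hirr hu.1 (orderOf_eq_two_of_sq hu.2.1 hu.2.2.1)
  obtain ⟨h1, h2, -, -⟩ := hu.block_of_odd (hu.conj hg) hk hk1 hko hle
  exact ⟨k, h1, h2⟩

include hbin

/-- Only `1` and `u` fix the fixed space of a reflection `u`. -/
theorem IsRefl.eq_of_fx_le {u h : V ≃ₗ[ZMod 2] V} (hu : IsRefl H u) (hh : h ∈ H)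
    (hle : Fx u ≤ Fx h) : h = 1 ∨ h = u := by
  obtain ⟨k, hk, hku⟩ := hu.exists_block hirr
  exact hk.eq_of_fx_le hbin hirr hku hu.2.1 hu.2.2.1 hh hle

theorem IsBlock.isRefl {k t : V ≃ₗ[ZMod 2] V} (hk : IsBlock H k) (ht : t ∈ stabF H k)
    (ht2 : t * t = 1) (htne : t ≠ 1) : IsRefl H t :=
  ⟨ht.1, ht2, htne, k, hk, (hk.invol_spec hbin hirr ht ht2 htne).1⟩

/-- The translation by `z` is the reflection with `z` in its commutator space. -/
theorem IsRefl.translation_eq {u g : V ≃ₗ[ZMod 2] V} (hu : IsRefl H u) {z : V} (hz : z ∈ Im u)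
    (hz0 : z ≠ 0) (hgH : g ∈ H) (hg : ∀ x, (∃ h ∈ H, h x = x + z) → g x = x + z) : g = u := by
  obtain ⟨x, hx⟩ := mem_im_two.1 hz
  have h1 := hg x ⟨u, hu.1, hx⟩
  have hle : Fx u ≤ Fx g := by
    intro y hy
    have h2 := hg (x + y) ⟨u, hu.1, by rw [map_add, hx, mem_fx.1 hy]; abel⟩
    rw [map_add, h1] at h2
    exact mem_fx.2 (add_left_cancel (a := x + z) (h2.trans (by abel)))
  rcases hu.eq_of_fx_le hbin hirr hgH hle with h | h
  · rw [h] at h1
    exact absurd (left_eq_add.1 h1) hz0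
  · exact h

/-- A non-zero vector lies in the commutator space of at most one reflection. -/
theorem IsRefl.unique {u u' : V ≃ₗ[ZMod 2] V} (hu : IsRefl H u) (hu' : IsRefl H u') {z : V}
    (hz0 : z ≠ 0) (hz : z ∈ Im u) (hz' : z ∈ Im u') : u = u' := by
  obtain ⟨g, hgH, -, hg⟩ := exists_translation hbin z
  rw [← hu.translation_eq hbin hirr hz hz0 hgH hg, hu'.translation_eq hbin hirr hz' hz0 hgH hg]

/-- Distinct reflections have independent commutator spaces. -/
theorem IsRefl.disjoint {u u' : V ≃ₗ[ZMod 2] V} (hu : IsRefl H u) (hu' : IsRefl H u')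
    (hne : u ≠ u') : Im u ⊓ Im u' = ⊥ := by
  rw [eq_bot_iff]
  intro z hz
  rw [Submodule.mem_bot]
  by_contra hz0
  exact hne (hu.unique hbin hirr hu' hz0 (Submodule.mem_inf.1 hz).1 (Submodule.mem_inf.1 hz).2)

/-- An element fixing a non-zero vector of the commutator space of a reflection commutes with it. -/
theorem IsRefl.commute_of_fix {u h : V ≃ₗ[ZMod 2] V} (hu : IsRefl H u) (hh : h ∈ H) {z : V}
    (hz0 : z ≠ 0) (hz : z ∈ Im u) (hhz : h z = z) : h * u = u * h := by
  have hz' : z ∈ Im (h * u * h⁻¹) := by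
    rw [← map_im]
    exact ⟨z, hz, hhz⟩
  exact mul_inv_eq_iff_eq_mul.1 (hu.unique hbin hirr (hu.conj hh) hz0 hz hz').symm

/-- Two non-commuting reflections lie in a block. -/
theorem IsRefl.exists_common_block {a b : V ≃ₗ[ZMod 2] V} (ha : IsRefl H a) (hb : IsRefl H b)
    (hc : a * b ≠ b * a) :
    ∃ k, IsBlock H k ∧ a ∈ stabF H k ∧ b ∈ stabF H k ∧ Fx k = Fx a ⊓ Fx b := by
  obtain ⟨e, o, ho, heo⟩ :=
    Nat.exists_eq_pow_mul_and_not_dvd (orderOf_pos (a * b)).ne' 2 (by decide)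
  set π := a * b with hπ
  have hπH : π ∈ H := mul_mem ha.1 hb.1
  have hord : orderOf (π ^ 2 ^ e) = o := by
    rw [orderOf_pow_of_dvd (by positivity) ⟨o, heo⟩, heo,
      Nat.mul_div_cancel_left _ (by positivity)]
  by_cases h1 : o = 1
  · exfalso
    subst h1
    rw [mul_one] at heo
    obtain ⟨f, rfl⟩ : ∃ f, e = f + 2 := by
      refine ⟨e - 2, ?_⟩
      rcases e with _ | _ | e
      · have hab : a * b = 1 := orderOf_eq_one_iff.1 heo
        exact absurd (by rw [hπ, (inv_eq_of_sq ha.2.1).symm.trans (inv_eq_of_mul_eq_one_right hab)]) hc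
      · exact absurd (commute_of_sq ha.2.1 hb.2.1 (sq_eq_one_of_orderOf_eq_two heo)) hc
      · omega
    set r := π ^ 2 ^ f with hr
    have hro : orderOf r = 4 := by
      rw [hr, orderOf_pow_of_dvd (by positivity) ⟨4, by rw [heo, pow_add]; rfl⟩, heo,
        Nat.pow_div (by omega) (by norm_num), show f + 2 - f = 2 by omega]
    have hrH : r ∈ H := pow_mem hπH _
    have hinv : a * r * a = r⁻¹ := by
      have h2 : a * π * a⁻¹ = π⁻¹ := by
        rw [hπ, inv_eq_of_sq ha.2.1, ← mul_assoc, ha.2.1, one_mul, mul_inv_rev,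
          inv_eq_of_sq ha.2.1, inv_eq_of_sq hb.2.1]
      have h3 := congrArg (· ^ 2 ^ f) h2
      simp only [conj_pow, inv_pow] at h3
      rw [← hr, inv_eq_of_sq ha.2.1] at h3
      exact h3
    set a' := r * a * r⁻¹ with ha'def
    have ha' : IsRefl H a' := ha.conj hrH
    set v := r * r with hv
    have hv2 : v * v = 1 := by
      rw [hv, show r * r * (r * r) = r ^ 4 by
        rw [show r * r = r ^ 2 from (pow_two r).symm, ← pow_add]]
      exact orderOf_dvd_iff_pow_eq_one.1 (dvd_of_eq hro)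
    have hvne : v ≠ 1 := fun h2 => by
      have h3 := orderOf_dvd_of_pow_eq_one (show r ^ 2 = 1 by rw [pow_two]; exact h2)
      rw [hro] at h3
      norm_num at h3
    have hva : v = a' * a := by
      rw [ha'def, ← hinv, mul_assoc, mul_assoc (a * r), ha.2.1, mul_one, hv, mul_assoc r a,
        ← mul_assoc a a, ha.2.1, one_mul]
    have haa : a' * a = a * a' := by
      refine commute_of_sq ha'.2.1 ha.2.1 ?_
      rw [← hva, hv2]
    have hne : a' ≠ a := fun h2 => hvne (by rw [hva, h2, ha.2.1])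
    have hfix : Im v ≤ Fx r := im_le_fx_of_commute hbin (mul_mem hrH hrH) hv2 hrH (by
      rw [hv, mul_assoc])
    have hi1 : Im a ≤ Fx a' := im_le_fx_of_commute hbin ha.1 ha.2.1 ha'.1 haa
    have hra : r * a' * r⁻¹ = a := by
      rw [show r * a' * r⁻¹ = v * a * v⁻¹ by rw [ha'def, hv]; group, inv_eq_of_sq hv2, hva,
        mul_assoc a' a a, ha.2.1, mul_one, ← mul_assoc, ha'.2.1, one_mul]
    have hle : Fx a ≤ Fx a' := by
      intro x hx
      rw [mem_fx]
      have hvx : v x - x ∈ Im v := sub_mem_im v x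
      have hax : a x = x := mem_fx.1 hx
      have h5 : v x - x = a' x - x := by rw [hva, LinearEquiv.mul_apply, hax]
      have h6 := mem_fx.1 (hfix hvx)
      rw [h5] at h6
      have h7 : a' x - x ∈ Im a ⊓ Im a' := by
        refine Submodule.mem_inf.2 ⟨?_, sub_mem_im a' x⟩
        rw [← hra, ← map_im]
        exact ⟨_, sub_mem_im a' x, h6⟩
      rw [ha.disjoint hbin hirr ha' (Ne.symm hne), Submodule.mem_bot] at h7
      exact sub_eq_zero.1 h7
    rcases ha.eq_of_fx_le hbin hirr ha'.1 hle with h2 | h2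
    · exact ha'.2.2.1 h2
    · exact hne h2
  · have hne : π ^ 2 ^ e ≠ 1 := fun h2 => h1 (by rw [← hord, h2, orderOf_one])
    obtain ⟨hk, h2, h3, h4⟩ := ha.block_of_odd hb (pow_mem hπH _) hne
      (by rw [hord]; exact Nat.odd_iff.2 (by omega))
      ((fx_inf_le_mul a b).trans (fx_le_pow _ _))
    exact ⟨_, hk, h2, h3, h4⟩

/-- Two distinct reflections of a block determine its fixed space and span `W`. -/
theorem IsBlock.pair_spec {k t t' : V ≃ₗ[ZMod 2] V} (hk : IsBlock H k) (ht : t ∈ stabF H k)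
    (ht2 : t * t = 1) (htne : t ≠ 1) (ht' : t' ∈ stabF H k) (ht'2 : t' * t' = 1)
    (ht'ne : t' ≠ 1) (hne : t ≠ t') :
    Fx k = Fx t ⊓ Fx t' ∧ Im k = Im t ⊔ Im t' ∧ t * t' ≠ t' * t := by
  obtain ⟨h1, -⟩ := hk.invol_spec hbin hirr ht ht2 htne
  obtain ⟨h2, -⟩ := hk.invol_spec hbin hirr ht' ht'2 ht'ne
  have hrt := hk.isRefl hbin hirr ht ht2 htne
  have hrt' := hk.isRefl hbin hirr ht' ht'2 ht'ne
  have hodd := hk.odd_invol_mul hbin hirr ht ht2 htne ht' ht'2 ht'ne
  have hne1 : t' * t ≠ 1 := fun h => hne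
    ((inv_eq_of_mul_eq_one_right h).symm.trans (inv_eq_of_sq ht'2))
  refine ⟨?_, ?_, fun hc => ?_⟩
  · refine le_antisymm (le_inf ht.2 ht'.2) ?_
    rw [← hk.odd_fx (mul_mem ht' ht) hne1 hodd, inf_comm]
    exact fx_inf_le_mul t' t
  · refine (Submodule.eq_of_le_of_finrank_le
      (sup_le (hk.im_le hbin hirr ht) (hk.im_le hbin hirr ht')) ?_).symm
    have h3 := Submodule.finrank_sup_add_finrank_inf_eq (Im t) (Im t')
    rw [hrt.disjoint hbin hirr hrt' hne, finrank_bot, add_zero] at h3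
    change codimFix k ≤ _
    rw [h3]
    show codimFix k ≤ codimFix t + codimFix t'
    omega
  · have h3 := orderOf_dvd_of_pow_eq_one (show (t' * t) ^ 2 = 1 by
      rw [pow_two]; exact mul_sq_of_commute ht'2 ht2 hc.symm)
    rcases (Nat.dvd_prime Nat.prime_two).1 h3 with h4 | h4
    · exact hne1 (orderOf_eq_one_iff.1 h4)
    · rw [h4] at hodd
      exact absurd hodd (by decide)

end Cfsg.Agent.BinaryAffine
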