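import Mathlib.Algebra.BigOperators.Group.Finset.Basic
import Mathlib.Algebra.CharP.Two
import Cfsg.Agent.BinaryAffine.Refl

/-!
A reflection is in a given block, or its commutator space lies in the fixed space of the block:
there are no skew reflections.
-/

set_option autoImplicit false

namespace Cfsg.Agent.BinaryAffine

variable {V : Type} [AddCommGroup V] [Module (ZMod 2) V] [Finite V]
variable {H : Subgroup (V ≃ₗ[ZMod 2] V)}

/-- A reflection in general position with respect to a block. -/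
def IsSkew (H : Subgroup (V ≃ₗ[ZMod 2] V)) (k r : V ≃ₗ[ZMod 2] V) : Prop :=
  IsRefl H r ∧ Im r ⊓ Fx k = ⊥ ∧ Im r ⊓ Im k = ⊥

omit [Finite V] in
theorem mul_sub_eq {a b : V ≃ₗ[ZMod 2] V} (hc : Im b ≤ Fx a) (x : V) :
    (a * b) x - x = (a x - x) + (b x - x) := by
  have h1 := mem_fx.1 (hc (sub_mem_im b x))
  rw [map_sub] at h1
  rw [LinearEquiv.mul_apply, ← sub_add_cancel (a (b x)) (a x), h1]
  abel

omit [Finite V] in
theorem mem_fx_of_mem_inf {a b : V ≃ₗ[ZMod 2] V} (hc : Im b ≤ Fx a) (hd : Im a ⊓ Im b = ⊥) {x : V}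
    (hx : x ∈ Fx (a * b)) : x ∈ Fx a ⊓ Fx b := by
  have h1 : (a x - x) + (b x - x) = 0 := by rw [← mul_sub_eq hc, sub_eq_zero, mem_fx.1 hx]
  have h2 : a x - x = b x - x := eq_of_add_eq_zero_two h1
  have h3 : a x - x ∈ Im a ⊓ Im b :=
    Submodule.mem_inf.2 ⟨sub_mem_im a x, h2 ▸ sub_mem_im b x⟩
  rw [hd, Submodule.mem_bot] at h3
  exact Submodule.mem_inf.2 ⟨mem_fx.2 (sub_eq_zero.1 h3), mem_fx.2 (sub_eq_zero.1 (h2 ▸ h3))⟩

variable (hbin : Bin H) (hirr : Irr H)
include hbin hirr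

/-- The involutions of a block are conjugate under an element of odd order. -/
theorem IsBlock.exists_conj {k t t' : V ≃ₗ[ZMod 2] V} (hk : IsBlock H k) (ht : t ∈ stabF H k)
    (ht2 : t * t = 1) (htne : t ≠ 1) (ht' : t' ∈ stabF H k) (ht'2 : t' * t' = 1) (ht'ne : t' ≠ 1) :
    ∃ o ∈ stabF H k, Odd (orderOf o) ∧ o * t * o⁻¹ = t' := by
  set e := t' * t with he
  have heo := hk.odd_invol_mul hbin hirr ht ht2 htne ht' ht'2 ht'ne
  obtain ⟨c, hc⟩ : ∃ c, orderOf e = 2 * c + 1 := heo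
  obtain ⟨O, hO⟩ := hk.exists_oddGroup hbin hirr
  have heS : e ∈ stabF H k := mul_mem ht' ht
  obtain ⟨hoS, hoo⟩ := (hO (e ^ (c + 1))).1 (pow_mem ((hO e).2 ⟨heS, ⟨c, hc⟩⟩) _)
  refine ⟨e ^ (c + 1), hoS, hoo, ?_⟩
  have hinv := hk.inv_odd hbin hirr ht ht2 htne hoS hoo
  have h1 : t * (e ^ (c + 1))⁻¹ = e ^ (c + 1) * t := by
    rw [← hinv, ← mul_assoc, ← mul_assoc, ht2, one_mul]
  rw [mul_assoc, h1, ← mul_assoc, ← pow_add, show c + 1 + (c + 1) = orderOf e + 1 by omega,
    pow_succ, pow_orderOf_eq_one, one_mul, he, mul_assoc, ht2, mul_one]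

/-- A reflection whose commutator space meets `W` lies in the block. -/
theorem IsBlock.mem_of_meet_im {k r : V ≃ₗ[ZMod 2] V} (hk : IsBlock H k) (hr : IsRefl H r) {z : V}
    (hz0 : z ≠ 0) (hz : z ∈ Im r) (hzW : z ∈ Im k) : r ∈ stabF H k := by
  obtain ⟨t, ht, ht2, htne, hzt⟩ := hk.exists_cover hbin hirr hzW hz0
  rw [hr.unique hbin hirr (hk.isRefl hbin hirr ht ht2 htne) hz0 hz hzt]
  exact ht

/-- A reflection whose commutator space meets the fixed space of a block centralises it. -/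
theorem IsBlock.cent_of_meet_fx {k r : V ≃ₗ[ZMod 2] V} (hk : IsBlock H k) (hr : IsRefl H r)
    {z : V} (hz0 : z ≠ 0) (hz : z ∈ Im r) (hzF : z ∈ Fx k) :
    (∀ o ∈ stabF H k, Odd (orderOf o) → r * o = o * r) ∧ Im k ≤ Fx r ∧ Im r ≤ Fx k := by
  have hc : ∀ o ∈ stabF H k, Odd (orderOf o) → r * o = o * r := fun o ho _ =>
    (hr.commute_of_fix hbin hirr ho.1 hz0 hz (mem_fx.1 (ho.2 hzF))).symm
  have hW : Im k ≤ Fx r := hk.le_fx_of_commute hbin hirr hr.2.1 hc
  refine ⟨hc, hW, fun y hy => ?_⟩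
  obtain ⟨x, rfl⟩ := mem_im.1 hy
  obtain ⟨f, hf, w, hw, rfl⟩ := Submodule.mem_sup.1
    ((isCompl_fx_im hk.odd).sup_eq_top ▸ Submodule.mem_top : x ∈ Fx k ⊔ Im k)
  rw [map_add, mem_fx.1 (hW hw), add_sub_add_right_eq_sub]
  refine sub_mem ?_ hf
  have := map_fx r k
  rw [hc k ⟨hk.mem, le_rfl⟩ hk.odd, mul_inv_cancel_right] at this
  rw [← this]
  exact Submodule.mem_map_of_mem hf

/-- The three possible positions of a reflection with respect to a block. -/
theorem IsBlock.trichotomy {k r : V ≃ₗ[ZMod 2] V} (hk : IsBlock H k) (hr : IsRefl H r) :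
    r ∈ stabF H k ∨ (Im r ≤ Fx k ∧ Im k ≤ Fx r) ∨ IsSkew H k r := by
  by_cases h1 : Im r ⊓ Im k = ⊥
  · by_cases h2 : Im r ⊓ Fx k = ⊥
    · exact Or.inr (Or.inr ⟨hr, h2, h1⟩)
    · obtain ⟨z, hz, hz0⟩ := Submodule.exists_mem_ne_zero_of_ne_bot h2
      obtain ⟨-, hW, hF⟩ := hk.cent_of_meet_fx hbin hirr hr hz0 (Submodule.mem_inf.1 hz).1
        (Submodule.mem_inf.1 hz).2
      exact Or.inr (Or.inl ⟨hF, hW⟩)
  · obtain ⟨z, hz, hz0⟩ := Submodule.exists_mem_ne_zero_of_ne_bot h1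
    exact Or.inl (hk.mem_of_meet_im hbin hirr hr hz0 (Submodule.mem_inf.1 hz).1
      (Submodule.mem_inf.1 hz).2)

/-- A skew reflection commutes with exactly one involution of the block. -/
theorem IsSkew.exists_invol {k s : V ≃ₗ[ZMod 2] V} (hk : IsBlock H k) (hs : IsSkew H k s) :
    ∃ t ∈ stabF H k, t * t = 1 ∧ t ≠ 1 ∧ t * s = s * t ∧
      (∀ t' ∈ stabF H k, t' * t' = 1 → t' ≠ 1 → t' * s = s * t' → t' = t) ∧
      Im s ≤ Fx k ⊔ Im t := by
  obtain ⟨hsr, hsF, hsW⟩ := hs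
  have huniq : ∀ t ∈ stabF H k, t * t = 1 → t ≠ 1 → t * s = s * t →
      ∀ t' ∈ stabF H k, t' * t' = 1 → t' ≠ 1 → t' * s = s * t' → t' = t := by
    intro t ht ht2 htne htc t' ht' ht'2 ht'ne ht'c
    by_contra hne
    set o := t' * t with ho
    have hoo := hk.odd_invol_mul hbin hirr ht ht2 htne ht' ht'2 ht'ne
    have hone : o ≠ 1 := fun h => hne
      ((inv_eq_of_sq ht'2).symm.trans (inv_eq_of_mul_eq_one_right h))
    have hoS : o ∈ stabF H k := mul_mem ht' ht
    have hoc : s * o * s⁻¹ = o := by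
      rw [ho, ← mul_assoc s t' t, ← ht'c, mul_assoc t' s t, ← htc, ← mul_assoc t' t s,
        mul_inv_cancel_right]
    have hF : Fx k ≤ Fx s := by
      intro f hf
      have h1 : s f - f ∈ Im s ⊓ Fx k := by
        refine Submodule.mem_inf.2 ⟨sub_mem_im s f, sub_mem ?_ hf⟩
        rw [← hk.odd_fx hoS hone hoo, ← hoc, ← map_fx]
        exact Submodule.mem_map_of_mem (by rw [hk.odd_fx hoS hone hoo]; exact hf)
      rw [hsF, Submodule.mem_bot] at h1
      exact mem_fx.2 (sub_eq_zero.1 h1)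
    have hio : Im o = Im k := Submodule.eq_of_le_of_finrank_le (hk.im_le hbin hirr hoS)
      (hk.min o hoS.1 hone hoo)
    have hW : Im k ≤ Fx s := by
      intro w hw
      have h1 : s w - w ∈ Im s ⊓ Im k := by
        refine Submodule.mem_inf.2 ⟨sub_mem_im s w, sub_mem ?_ hw⟩
        rw [← hio, ← hoc, ← map_im]
        exact Submodule.mem_map_of_mem (by rw [hio]; exact hw)
      rw [hsW, Submodule.mem_bot] at h1
      exact mem_fx.2 (sub_eq_zero.1 h1)
    apply hsr.2.2.1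
    refine fx_eq_top_iff.1 (top_unique ?_)
    rw [← (isCompl_fx_im hk.odd).sup_eq_top]
    exact sup_le hF hW
  have hstep : ∀ z ∈ Im s, z ≠ 0 → ∃ t ∈ stabF H k, t * t = 1 ∧ t ≠ 1 ∧ t * s = s * t ∧
      z ∈ Fx k ⊔ Im t := by
    intro z hz hz0
    obtain ⟨f, hf, w, hw, hfw⟩ := Submodule.mem_sup.1
      ((isCompl_fx_im hk.odd).sup_eq_top ▸ Submodule.mem_top : z ∈ Fx k ⊔ Im k)
    have hw0 : w ≠ 0 := by
      rintro rfl
      rw [add_zero] at hfw
      subst hfw
      have h1 : f ∈ Im s ⊓ Fx k := Submodule.mem_inf.2 ⟨hz, hf⟩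
      rw [hsF, Submodule.mem_bot] at h1
      exact hz0 h1
    obtain ⟨t, ht, ht2, htne, hwt⟩ := hk.exists_cover hbin hirr hw hw0
    refine ⟨t, ht, ht2, htne, hsr.commute_of_fix hbin hirr ht.1 hz0 hz ?_, ?_⟩
    · rw [← hfw, map_add, mem_fx.1 (ht.2 hf), mem_fx.1 (im_le_fx_of_sq ht2 hwt)]
    · rw [← hfw]
      exact Submodule.add_mem_sup hf hwt
  obtain ⟨z₀, hz₀, hz₀0⟩ := hsr.im_ne_bot
  obtain ⟨t, ht, ht2, htne, htc, -⟩ := hstep z₀ hz₀ hz₀0
  refine ⟨t, ht, ht2, htne, htc, huniq t ht ht2 htne htc, fun z hz => ?_⟩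
  by_cases hz0 : z = 0
  · rw [hz0]; exact zero_mem _
  obtain ⟨t', ht', ht'2, ht'ne, ht'c, hzt⟩ := hstep z hz hz0
  rwa [huniq t ht ht2 htne htc t' ht' ht'2 ht'ne ht'c] at hzt

/-- A skew reflection has a partner centralising the block. -/
theorem IsSkew.exists_partner {k s t : V ≃ₗ[ZMod 2] V} (hk : IsBlock H k) (hs : IsSkew H k s)
    (ht : t ∈ stabF H k) (ht2 : t * t = 1) (htne : t ≠ 1) (htc : t * s = s * t)
    (hle : Im s ≤ Fx k ⊔ Im t) :
    ∃ g, IsRefl H g ∧ (∀ o ∈ stabF H k, Odd (orderOf o) → g * o = o * g) ∧ Im k ≤ Fx g ∧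
      Im g ≤ Fx k ∧ g * t = t * g ∧ g * s = s * g ∧ Im t ⊔ Im s = Im t ⊔ Im g := by
  classical
  obtain ⟨hsr, hsF, hsW⟩ := hs
  have htr := hk.isRefl hbin hirr ht ht2 htne
  have hcs := hsr.two_mul hk
  have hct := htr.two_mul hk
  have htk : Im t ≤ Im k := hk.im_le hbin hirr ht
  have htW : Im t ⊓ Fx k = ⊥ := hk.im_inf_fx hbin ht
  have hts : t ≠ s := by
    rintro rfl
    obtain ⟨z, hz, hz0⟩ := hsr.im_ne_bot
    have : z ∈ Im t ⊓ Im k := Submodule.mem_inf.2 ⟨hz, htk hz⟩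
    rw [hsW, Submodule.mem_bot] at this
    exact hz0 this
  have hdisj : Im t ⊓ Im s = ⊥ := htr.disjoint hbin hirr hsr hts
  have hst : Im s ≤ Fx t := im_le_fx_of_commute hbin hsr.1 hsr.2.1 ht.1 htc
  have hts' : Im t ≤ Fx s := im_le_fx_of_commute hbin ht.1 ht2 hsr.1 htc.symm
  set P := Im t ⊔ Im s with hP
  set J := P ⊓ Fx k with hJ
  set u := t * s with hu
  set F1 := Fx k ⊓ Fx s with hF1
  have hPs : P ≤ Fx s := sup_le hts' (im_le_fx_of_sq hsr.2.1)
  have hPdim : Module.finrank (ZMod 2) P = codimFix t + codimFix s := by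
    have h := Submodule.finrank_sup_add_finrank_inf_eq (Im t) (Im s)
    rw [hdisj, finrank_bot, add_zero] at h
    exact h
  have hPJ : P = Im t ⊔ J := by
    rw [hJ, inf_comm, ← sup_inf_assoc_of_le (Fx k) (le_sup_left : Im t ≤ P), inf_eq_right.2
      (sup_le le_sup_left (hle.trans (le_of_eq (sup_comm _ _))))]
  have hJdim : Module.finrank (ZMod 2) J = codimFix s := by
    have h := Submodule.finrank_sup_add_finrank_inf_eq (Im t) J
    rw [← hPJ, hPdim, show Im t ⊓ J = ⊥ from eq_bot_iff.2 fun x hx => by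
      rw [← htW]
      exact Submodule.mem_inf.2 ⟨(Submodule.mem_inf.1 hx).1,
        (Submodule.mem_inf.1 (Submodule.mem_inf.1 hx).2).2⟩, finrank_bot, add_zero] at h
    change codimFix t + codimFix s = codimFix t + Module.finrank (ZMod 2) J at h
    omega
  have huP : Im u ≤ P := by
    intro z hz
    obtain ⟨x, rfl⟩ := mem_im.1 hz
    rw [hu, mul_sub_eq hst]
    exact Submodule.add_mem_sup (sub_mem_im t x) (sub_mem_im s x)
  have hfu : Fx u = Fx t ⊓ Fx s :=
    le_antisymm (fun x hx => mem_fx_of_mem_inf hst hdisj hx) (fx_inf_le_mul t s)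
  have hItu : Im t ≤ Fx u := by
    rw [hfu]
    exact le_inf (im_le_fx_of_sq ht2) hts'
  have hF1u : F1 ≤ Fx u := by
    rw [hfu]
    exact le_inf (inf_le_left.trans ht.2) inf_le_right
  -- the element attached to a vector of `Im u` fixed by the block
  have hkey : ∀ j ∈ Im u, j ∈ Fx k → j ≠ 0 →
      ∃ g, IsRefl H g ∧ j ∈ Im g ∧ Fx g = Im k ⊔ F1 ∧
        Module.finrank (ZMod 2) F1 + codimFix s = Module.finrank (ZMod 2) (Fx k) := by
    intro j hju hjF hj0
    obtain ⟨x, hx⟩ := mem_im_two.1 hju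
    obtain ⟨g, hgH, hgj, hg⟩ := exists_translation hbin j
    have hgo : ∀ o ∈ stabF H k, ∀ y ∈ Fx u, g (o y) = o y := by
      intro o ho y hy
      have hoj : o j = j := mem_fx.1 (ho.2 hjF)
      have h1 := hg (o x) ⟨o * u * o⁻¹, mul_mem (mul_mem ho.1 (mul_mem ht.1 hsr.1))
        (inv_mem ho.1), by rw [conj_inv_apply, hx, map_add, hoj]⟩
      have h2 := hg (o x + o y) ⟨o * u * o⁻¹, mul_mem (mul_mem ho.1 (mul_mem ht.1 hsr.1))
        (inv_mem ho.1), by
          rw [← map_add, conj_inv_apply, map_add, hx, mem_fx.1 hy, map_add, map_add, hoj, map_add]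
          abel⟩
      rw [map_add, h1] at h2
      exact add_left_cancel (a := o x + j) (h2.trans (by abel))
    have hW : Im k ≤ Fx g := by
      intro w hw
      by_cases hw0 : w = 0
      · rw [hw0]; exact zero_mem _
      obtain ⟨t', ht', ht'2, ht'ne, hwt⟩ := hk.exists_cover hbin hirr hw hw0
      obtain ⟨o, ho, -, hot⟩ := hk.exists_conj hbin hirr ht ht2 htne ht' ht'2 ht'ne
      rw [← hot, ← map_im] at hwt
      obtain ⟨y, hy, rfl⟩ := hwt
      exact mem_fx.2 (hgo o ho y (hItu hy))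
    have hF : F1 ≤ Fx g := fun y hy =>
      mem_fx.2 (hgo 1 (one_mem _) y (hF1u hy))
    have hgx : g x = x + j := hg x ⟨u, mul_mem ht.1 hsr.1, hx⟩
    have hgne : g ≠ 1 := fun h => by
      rw [h] at hgx
      exact hj0 (left_eq_add.1 hgx)
    have h1 : Module.finrank (ZMod 2) (Im k ⊔ F1 : Submodule (ZMod 2) V) =
        codimFix k + Module.finrank (ZMod 2) F1 := by
      have h := Submodule.finrank_sup_add_finrank_inf_eq (Im k) F1
      rw [show Im k ⊓ F1 = ⊥ from eq_bot_iff.2 fun y hy => by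
        rw [← (isCompl_fx_im hk.odd).symm.inf_eq_bot]
        exact Submodule.mem_inf.2 ⟨(Submodule.mem_inf.1 hy).1,
          (Submodule.mem_inf.1 (Submodule.mem_inf.1 hy).2).1⟩, finrank_bot, add_zero] at h
      exact h
    have h2 := finrank_le_of_inf (Fx k) (Fx s)
    have h3 := codimFix_add k
    have h4 := codimFix_add s
    have h5 := codimFix_add g
    have h6 := Submodule.finrank_mono (sup_le hW hF)
    rw [← hF1] at h2
    have hg2 : g * g = 1 := by
      by_contra hne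
      have h7 : Fx g < Fx (g * g) := by
        refine lt_of_le_of_ne (fun y hy => fx_inf_le_mul g g (Submodule.mem_inf.2 ⟨hy, hy⟩))
          fun heq => hj0 ?_
        have h9 : x ∈ Fx (g * g) := by
          rw [mem_fx, LinearEquiv.mul_apply, hgx, map_add, hgx, hgj, add_assoc, add_self_two,
            add_zero]
        rw [← heq, mem_fx, hgx] at h9
        exact add_eq_left.1 h9
      have h8 := Submodule.finrank_lt_finrank_of_lt h7
      have h9 := codimFix_add (g * g)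
      have h10 := hsr.le_codimFix hirr (mul_mem hgH hgH) hne
      omega
    have h10 := hsr.le_codimFix hirr hgH hgne
    refine ⟨g, ⟨hgH, hg2, hgne, k, hk, by omega⟩, mem_im_two.2 ⟨x, hgx⟩,
      (Submodule.eq_of_le_of_finrank_le (sup_le hW hF) (by omega)).symm, by omega⟩
  -- such a vector exists
  obtain ⟨j₀, hj₀, hj₀0⟩ : ∃ j ∈ Im u ⊓ J, j ≠ 0 := by
    refine Submodule.exists_mem_ne_zero_of_ne_bot fun h0 => ?_
    have h1 := Submodule.finrank_sup_add_finrank_inf_eq (Im u) J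
    rw [h0, finrank_bot, add_zero, hJdim] at h1
    have h2 := Submodule.finrank_mono (sup_le huP inf_le_left : Im u ⊔ J ≤ P)
    change _ = codimFix u + _ at h1
    have h3 := codimFix_add u
    have h4 := codimFix_add t
    have h5 := codimFix_add s
    have h6 : Fx t = Fx s := by
      refine (fx_eq_of_le (g := t) (h := s) ?_ (by omega))
      intro x hx
      have h8 : Fx u = Fx t := Submodule.eq_of_le_of_finrank_le
        (hfu.le.trans inf_le_left) (by omega)
      rw [← h8, hfu] at hx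
      exact (Submodule.mem_inf.1 hx).2
    rcases htr.eq_of_fx_le hbin hirr hsr.1 h6.le with h | h
    · exact hsr.2.2.1 h
    · exact hts h.symm
  obtain ⟨hj₀u, hj₀J⟩ := Submodule.mem_inf.1 hj₀
  obtain ⟨hj₀P, hj₀F⟩ := Submodule.mem_inf.1 hj₀J
  obtain ⟨g, hgr, hjg, hfg, hF1dim⟩ := hkey j₀ hj₀u hj₀F hj₀0
  obtain ⟨hgc, hgW, hgF⟩ := hk.cent_of_meet_fx hbin hirr hgr hj₀0 hjg hj₀F
  have huP' : Im u = P := by
    refine Submodule.eq_of_le_of_finrank_le huP ?_
    have hsub : Fx u ≤ Im t ⊔ F1 := by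
      intro y hy
      rw [hfu] at hy
      obtain ⟨hyt, hys⟩ := Submodule.mem_inf.1 hy
      rw [(hk.invol_spec hbin hirr ht ht2 htne).2] at hyt
      obtain ⟨f, hf, i, hi, rfl⟩ := Submodule.mem_sup.1 hyt
      have hfs : f ∈ Fx s := by
        have := sub_mem hys (hts' hi)
        rwa [add_sub_cancel_right] at this
      rw [add_comm]
      exact Submodule.add_mem_sup hi (Submodule.mem_inf.2 ⟨hf, hfs⟩)
    have h1 := Submodule.finrank_mono hsub
    have h2 := Submodule.finrank_add_le_finrank_add_finrank (Im t) F1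
    have h3 := codimFix_add u
    have h4 := codimFix_add k
    show Module.finrank (ZMod 2) P ≤ codimFix u
    change _ ≤ codimFix t + _ at h2
    omega
  have hJg : J ≤ Im g := by
    intro j hj
    by_cases hj0 : j = 0
    · rw [hj0]; exact zero_mem _
    obtain ⟨hjP, hjF⟩ := Submodule.mem_inf.1 hj
    obtain ⟨g', hg'r, hjg', hfg', -⟩ := hkey j (huP'.symm ▸ hjP) hjF hj0
    rcases hgr.eq_of_fx_le hbin hirr hg'r.1 (le_of_eq (hfg.trans hfg'.symm)) with h | h
    · exact absurd h hg'r.2.2.1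
    · rw [← h]; exact hjg'
  have hJeq : J = Im g := by
    refine Submodule.eq_of_le_of_finrank_le hJg ?_
    rw [hJdim]
    show codimFix g ≤ _
    have := hgr.two_mul hk
    omega
  exact ⟨g, hgr, hgc, hgW, hgF,
    (hgr.commute_of_fix hbin hirr ht.1 hj₀0 hjg (mem_fx.1 (ht.2 hj₀F))).symm,
    (hgr.commute_of_fix hbin hirr hsr.1 hj₀0 hjg (mem_fx.1 (hPs hj₀P))).symm,
    by rw [← hJeq]; exact hPJ⟩

/-- There are no skew reflections. -/
theorem not_isSkew {k s : V ≃ₗ[ZMod 2] V} (hk : IsBlock H k) (hs : IsSkew H k s) : False := by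
  classical
  obtain ⟨O, hO⟩ := hk.exists_oddGroup hbin hirr
  obtain ⟨m, hm, hm0, -, hTcard⟩ := hk.card_odd hbin hirr hO
  obtain ⟨t, ht, ht2, htne, htc, htuniq, hle⟩ := hs.exists_invol hbin hirr hk
  obtain ⟨g, hgr, hgo, hgW, hgF, hgt, hgs, hPg⟩ :=
    hs.exists_partner hbin hirr hk ht ht2 htne htc hle
  have htr := hk.isRefl hbin hirr ht ht2 htne
  have hsr := hs.1
  have hm' : ∀ {r}, IsRefl H r → Module.finrank (ZMod 2) (Im r) = m := fun {r} hr => by
    have := hr.two_mul hk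
    show codimFix r = m
    omega
  have htk : Im t ≤ Im k := hk.im_le hbin hirr ht
  have hFW : ∀ {x}, x ∈ Fx k → x ∈ Im k → x = 0 := fun {x} h1 h2 => by
    have : x ∈ Fx k ⊓ Im k := Submodule.mem_inf.2 ⟨h1, h2⟩
    rwa [(isCompl_fx_im hk.odd).inf_eq_bot, Submodule.mem_bot] at this
  have htg : t ≠ g := by
    intro h
    obtain ⟨z, hz, hz0⟩ := htr.im_ne_bot
    exact hz0 (hFW (hgF (h ▸ hz)) (htk hz))
  set P := Im t ⊔ Im g with hPdef
  have hsP : Im s ≤ P := le_sup_right.trans hPg.le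
  have hit : Im g ≤ Fx t := im_le_fx_of_commute hbin hgr.1 hgr.2.1 ht.1 hgt.symm
  have hig : Im t ≤ Fx g := im_le_fx_of_commute hbin ht.1 ht2 hgr.1 hgt
  have htP : P ≤ Fx t := sup_le (im_le_fx_of_sq ht2) hit
  have hgP : P ≤ Fx g := sup_le hig (im_le_fx_of_sq hgr.2.1)
  have hPdim : Module.finrank (ZMod 2) P = 2 * m := by
    have h := Submodule.finrank_sup_add_finrank_inf_eq (Im t) (Im g)
    rw [htr.disjoint hbin hirr hgr htg, finrank_bot, add_zero, hm' htr, hm' hgr, ← hPdef] at h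
    omega
  have hPF : ∀ {x}, x ∈ P → x ∈ Fx k → x ∈ Im g := fun {x} hx hxF => by
    obtain ⟨i, hi, j, hj, rfl⟩ := Submodule.mem_sup.1 hx
    have : i = 0 := hFW (by have := sub_mem hxF (hgF hj); rwa [add_sub_cancel_right] at this)
      (htk hi)
    rw [this, zero_add]
    exact hj
  have hPW : ∀ {x}, x ∈ P → x ∈ Im k → x ∈ Im t := fun {x} hx hxW => by
    obtain ⟨i, hi, j, hj, rfl⟩ := Submodule.mem_sup.1 hx
    have : j = 0 := hFW (hgF hj)
      (by have := sub_mem hxW (htk hi); rwa [add_sub_cancel_left] at this)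
    rw [this, add_zero]
    exact hi
  -- a reflection meeting `P` has commutator space inside it
  have hinP : ∀ r, IsRefl H r → ∀ z ∈ Im r, z ≠ 0 → z ∈ P → Im r ≤ P := by
    intro r hr z hz hz0 hzP
    have hct : t * r = r * t := hr.commute_of_fix hbin hirr ht.1 hz0 hz (mem_fx.1 (htP hzP))
    rcases hk.trichotomy hbin hirr hr with h1 | ⟨h1, -⟩ | h1
    · by_cases hrt : r = t
      · rw [hrt]; exact le_sup_left
      · exact absurd hct.symm (hk.pair_spec hbin hirr h1 hr.2.1 hr.2.2.1 ht ht2 htne hrt).2.2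
    · rw [hr.unique hbin hirr hgr hz0 hz (hPF hzP (h1 hz))]
      exact le_sup_right
    · obtain ⟨t', ht', ht'2, ht'ne, -, huni, hle'⟩ := h1.exists_invol hbin hirr hk
      have htt : t = t' := huni t ht ht2 htne hct
      subst htt
      obtain ⟨g', hg'r, -, -, hg'F, -, -, hP'⟩ :=
        h1.exists_partner hbin hirr hk ht ht2 htne hct hle'
      obtain ⟨i, hi, j, hj, hij⟩ := Submodule.mem_sup.1 hzP
      have hz' : z ∈ Im t ⊔ Im g' := hP' ▸ Submodule.mem_sup_right hz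
      obtain ⟨i', hi', j', hj', hij'⟩ := Submodule.mem_sup.1 hz'
      have hjj : j = j' := by
        have e : j - j' = i' - i := by
          rw [sub_eq_sub_iff_add_eq_add, add_comm j i, hij, hij']
        exact sub_eq_zero.1 (hFW (sub_mem (hgF hj) (hg'F hj'))
          (e ▸ sub_mem (htk hi') (htk hi)))
      have hj0 : j ≠ 0 := by
        intro h
        rw [h, add_zero] at hij
        have h2 : z ∈ Im r ⊓ Im k := Submodule.mem_inf.2 ⟨hz, hij ▸ htk hi⟩
        rw [h1.2.2, Submodule.mem_bot] at h2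
        exact hz0 h2
      have hgg : g' = g := hg'r.unique hbin hirr hgr hj0 (hjj ▸ hj') hj
      rw [hgg] at hP'
      exact le_sup_right.trans hP'.le
  -- the involution `v = t g`
  set v := t * g with hv
  have hv2 : v * v = 1 := mul_sq_of_commute ht2 hgr.2.1 hgt.symm
  have hfv : Fx v = Fx t ⊓ Fx g := le_antisymm
    (fun x hx => mem_fx_of_mem_inf hit (htr.disjoint hbin hirr hgr htg) hx) (fx_inf_le_mul t g)
  have hvP : ∀ z ∈ P, ∃ x, v x - x = z := by
    intro z hz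
    obtain ⟨i, hi, j, hj, rfl⟩ := Submodule.mem_sup.1 hz
    obtain ⟨a, ha⟩ := mem_im.1 hi
    obtain ⟨b, hb⟩ := mem_im.1 hj
    obtain ⟨fa, hfa, wa, hwa, rfl⟩ := Submodule.mem_sup.1
      ((isCompl_fx_im hk.odd).sup_eq_top ▸ Submodule.mem_top : a ∈ Fx k ⊔ Im k)
    obtain ⟨fb, hfb, wb, hwb, rfl⟩ := Submodule.mem_sup.1
      ((isCompl_fx_im hk.odd).sup_eq_top ▸ Submodule.mem_top : b ∈ Fx k ⊔ Im k)
    refine ⟨wa + fb, ?_⟩
    rw [hv, mul_sub_eq hit, ← ha, ← hb]
    simp only [map_add, mem_fx.1 (ht.2 hfa), mem_fx.1 (ht.2 hfb), mem_fx.1 (hgW hwa),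
      mem_fx.1 (hgW hwb)]
    abel
  have hvdim : codimFix v = 2 * m := by
    rw [← hPdim]
    refine le_antisymm (Submodule.finrank_mono fun z hz => ?_) (Submodule.finrank_mono fun z hz =>
      mem_im.2 (hvP z hz))
    obtain ⟨x, rfl⟩ := mem_im.1 hz
    rw [hv, mul_sub_eq hit]
    exact Submodule.add_mem_sup (sub_mem_im t x) (sub_mem_im g x)
  have hImv : Im v = P := le_antisymm (fun z hz => by
    obtain ⟨x, rfl⟩ := mem_im.1 hz
    rw [hv, mul_sub_eq hit]
    exact Submodule.add_mem_sup (sub_mem_im t x) (sub_mem_im g x)) fun z hz => mem_im.2 (hvP z hz)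
  have hrv_eq : ∀ r, IsRefl H r → Im r ≤ P → ∀ x, v x - x ∈ Im r → r x - x = v x - x := by
    intro r hr hrP x hx
    have key : ∀ z ∈ Im r, z ≠ 0 → ∀ y, v y = y + z → r y = y + z := by
      intro z hz hz0 y hy
      obtain ⟨g', hg'H, -, hg'⟩ := exists_translation hbin z
      have := hg' y ⟨v, mul_mem ht.1 hgr.1, hy⟩
      rwa [hr.translation_eq hbin hirr hz hz0 hg'H hg'] at this
    by_cases h0 : v x - x = 0
    · obtain ⟨z, hz, hz0⟩ := hr.im_ne_bot
      obtain ⟨y, hy⟩ := hvP z (hrP hz)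
      have hvy : v y = y + z := by rw [← hy]; abel
      have h1 := key z hz hz0 y hvy
      have h2 := key z hz hz0 (y + x) (by rw [map_add, hvy, sub_eq_zero.1 h0]; abel)
      rw [map_add, h1] at h2
      rw [h0, sub_eq_zero]
      exact add_left_cancel (a := y + z) (h2.trans (by abel))
    · have h1 := key _ hx h0 x (by abel)
      rw [h1]; abel
  -- the pairing
  let R' := {r : V ≃ₗ[ZMod 2] V // IsRefl H r ∧ Im r ≤ P}
  have hpair : ∀ r : R', r.1 * v = v * r.1 ∧ IsRefl H (r.1 * v) ∧ Im (r.1 * v) ≤ P ∧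
      r.1 * v ≠ r.1 := by
    rintro ⟨r, hr, hrP⟩
    obtain ⟨z, hz, hz0⟩ := hr.im_ne_bot
    have hct : t * r = r * t := hr.commute_of_fix hbin hirr ht.1 hz0 hz (mem_fx.1 (htP (hrP hz)))
    have hcg : g * r = r * g := hr.commute_of_fix hbin hirr hgr.1 hz0 hz (mem_fx.1 (hgP (hrP hz)))
    have hcv : r * v = v * r := by
      rw [hv, ← mul_assoc, ← hct, mul_assoc, ← hcg, mul_assoc]
    have hrPfix : P ≤ Fx r := sup_le (im_le_fx_of_commute hbin ht.1 ht2 hr.1 hct.symm)
      (im_le_fx_of_commute hbin hgr.1 hgr.2.1 hr.1 hcg.symm)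
    have hRrv : ∀ x, (r * v) x - x = (r x - x) + (v x - x) := mul_sub_eq (hImv ▸ hrPfix)
    set A := (Im r).comap (R v) with hA
    have hAfx : A ≤ Fx (r * v) := by
      intro x hx
      have h1 : v x - x ∈ Im r := hx
      rw [mem_fx, ← sub_eq_zero, hRrv, hrv_eq r hr hrP x h1, add_self_two]
    have hAdim : Module.finrank (ZMod 2) A = m + Module.finrank (ZMod 2) (Fx v) := by
      have hFA : Fx v ≤ A := fun x hx => by
        rw [hA, Submodule.mem_comap, R_apply, mem_fx.1 hx, sub_self]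
        exact zero_mem _
      have h1 := LinearMap.finrank_range_add_finrank_ker ((R v).domRestrict A)
      rw [LinearMap.range_domRestrict, LinearMap.ker_domRestrict, hA,
        Submodule.map_comap_eq_self (show Im r ≤ LinearMap.range (R v) from hrP.trans hImv.ge),
        hm' hr] at h1
      rw [← h1, (Submodule.comapSubtypeEquivOfLe hFA).finrank_eq.symm]
      rfl
    have hne1 : r * v ≠ 1 := fun h => by
      have h1 : r = v := (eq_inv_of_mul_eq_one_left h).trans (inv_eq_of_sq hv2)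
      have h2 := hm' hr
      rw [h1] at h2
      change codimFix v = m at h2
      omega
    have hrvH : r * v ∈ H := mul_mem hr.1 (mul_mem ht.1 hgr.1)
    have hc : codimFix (r * v) = m := by
      have h1 := hAdim.symm.le.trans (Submodule.finrank_mono hAfx)
      have h2 := codimFix_add (r * v)
      have h3 := codimFix_add v
      have h4 := hr.le_codimFix hirr hrvH hne1
      have h5 : codimFix r = m := hm' hr
      omega
    refine ⟨hcv, ⟨hrvH, mul_sq_of_commute hr.2.1 hv2 hcv, hne1, k, hk,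
      show 2 * codimFix (r * v) = codimFix k by omega⟩, ?_,
      fun h => ?_⟩
    · intro w hw
      obtain ⟨x, rfl⟩ := mem_im.1 hw
      rw [hRrv]
      exact add_mem (hrP (sub_mem_im r x)) (hImv ▸ sub_mem_im v x)
    · have h1 : v = 1 := mul_left_cancel (h.trans (mul_one r).symm)
      rw [h1] at hvdim
      have : codimFix (1 : V ≃ₗ[ZMod 2] V) = 0 := by
        rw [codimFix, im_eq_bot_iff.2 rfl, finrank_bot]
      omega
  have : Fintype R' := Fintype.ofFinite _
  have heven : Even (Fintype.card R') := by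
    have hsum : ∑ _r : R', (1 : ZMod 2) = 0 := by
      refine Finset.sum_involution
        (fun r _ => (⟨r.1 * v, (hpair r).2.1, (hpair r).2.2.1⟩ : R')) (fun r _ => ?_)
        (fun r _ _ h => (hpair r).2.2.2 (congrArg Subtype.val h)) (fun r _ => Finset.mem_univ _)
        (fun r _ => Subtype.ext ?_)
      · exact CharTwo.add_self_eq_zero _
      · show r.1 * v * v = r.1
        rw [mul_assoc, hv2, mul_one]
    rw [Finset.sum_const, Finset.card_univ, nsmul_eq_mul, mul_one] at hsum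
    exact (ZMod.natCast_eq_zero_iff_even).1 hsum
  -- upper bound
  have hupper : Fintype.card R' ≤ 2 ^ m + 1 := by
    have h1 : Nat.card (Σ r : R', {x : Im r.1 // x ≠ 0}) ≤ Nat.card {x : P // x ≠ 0} := by
      refine Nat.card_le_card_of_injective (fun p => ⟨⟨p.2.1.1, p.1.2.2 p.2.1.2⟩,
        fun h => p.2.2 (Subtype.ext (show (p.2.1 : V) = 0 from congrArg Subtype.val h))⟩) ?_
      rintro ⟨r, ⟨x, hx⟩, hx0⟩ ⟨r', ⟨x', hx'⟩, hx'0⟩ heq
      have hxx : x = x' := congrArg (fun p => p.1.1) heq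
      subst hxx
      have hrr : r = r' := Subtype.ext (r.2.1.unique hbin hirr r'.2.1
        (fun h => hx0 (Subtype.ext h)) hx hx')
      subst hrr
      rfl
    rw [Nat.card_sigma, Finset.sum_congr rfl fun (r : R') _ => by
        rw [natCard_ne_zero, hm' r.2.1],
      Finset.sum_const, Finset.card_univ, smul_eq_mul, natCard_ne_zero, hPdim] at h1
    have h2 : 2 ≤ 2 ^ m := by
      calc 2 = 2 ^ 1 := rfl
        _ ≤ 2 ^ m := Nat.pow_le_pow_right (by norm_num) hm0
    have h3 : 2 ^ (2 * m) - 1 = (2 ^ m + 1) * (2 ^ m - 1) := by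
      rw [two_mul, pow_add]
      obtain ⟨c, hc⟩ : ∃ c, 2 ^ m = c + 1 := ⟨2 ^ m - 1, by omega⟩
      rw [hc, Nat.add_sub_cancel]
      have : (c + 1) * (c + 1) = (c + 1 + 1) * c + 1 := by ring
      omega
    rw [h3] at h1
    exact Nat.le_of_mul_le_mul_right h1 (by omega)
  -- lower bound: a block through `s` and another involution of the first block
  obtain ⟨t₁, ht₁, ht₁2, ht₁ne, ht₁t⟩ :
      ∃ t₁ ∈ stabF H k, t₁ * t₁ = 1 ∧ t₁ ≠ 1 ∧ t₁ ≠ t := by
    by_contra hcon
    push Not at hcon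
    have : Subsingleton {t // t ∈ stabF H k ∧ t * t = 1 ∧ t ≠ 1} :=
      ⟨fun a b => Subtype.ext ((hcon a.1 a.2.1 a.2.2.1 a.2.2.2).trans
        (hcon b.1 b.2.1 b.2.2.1 b.2.2.2).symm)⟩
    have h1 := Finite.card_le_one_iff_subsingleton.2 this
    rw [hTcard] at h1
    have : 1 ≤ 2 ^ m := Nat.one_le_two_pow
    omega
  have ht₁r := hk.isRefl hbin hirr ht₁ ht₁2 ht₁ne
  obtain ⟨k', hk', hsk', ht₁k', -⟩ := hsr.exists_common_block hbin hirr ht₁r
    fun h => ht₁t (htuniq t₁ ht₁ ht₁2 ht₁ne h.symm)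
  obtain ⟨O', hO'⟩ := hk'.exists_oddGroup hbin hirr
  obtain ⟨m', hm'2, -, -, hT'card⟩ := hk'.card_odd hbin hirr hO'
  have hmm : m' = m := by have := hk.codimFix_eq hk'; omega
  subst hmm
  have hst₁ : s ≠ t₁ := by
    rintro rfl
    obtain ⟨z, hz, hz0⟩ := hsr.im_ne_bot
    have : z ∈ Im s ⊓ Im k := Submodule.mem_inf.2 ⟨hz, hk.im_le hbin hirr ht₁ hz⟩
    rw [hs.2.2, Submodule.mem_bot] at this
    exact hz0 this
  have hW' : Im k' = Im s ⊔ Im t₁ :=
    (hk'.pair_spec hbin hirr hsk' hsr.2.1 hsr.2.2.1 ht₁k' ht₁2 ht₁ne hst₁).2.1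
  have hst : t ≠ s := by
    rintro rfl
    obtain ⟨z, hz, hz0⟩ := htr.im_ne_bot
    have : z ∈ Im t ⊓ Im k := Submodule.mem_inf.2 ⟨hz, htk hz⟩
    rw [hs.2.2, Submodule.mem_bot] at this
    exact hz0 this
  have hsg : g ≠ s := by
    rintro rfl
    obtain ⟨z, hz, hz0⟩ := hgr.im_ne_bot
    have : z ∈ Im g ⊓ Fx k := Submodule.mem_inf.2 ⟨hz, hgF hz⟩
    rw [hs.2.1, Submodule.mem_bot] at this
    exact hz0 this
  have htk' : t ∉ stabF H k' := fun h =>
    (hk'.pair_spec hbin hirr h ht2 htne hsk' hsr.2.1 hsr.2.2.1 hst).2.2 htc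
  have hgk' : g ∉ stabF H k' := fun h =>
    (hk'.pair_spec hbin hirr h hgr.2.1 hgr.2.2.1 hsk' hsr.2.1 hsr.2.2.1 hsg).2.2 hgs
  have hit₁ : Im t₁ ≤ Im k := hk.im_le hbin hirr ht₁
  have hWJ : Im k' ≤ Im k ⊔ Im g := by
    rw [hW']
    exact sup_le (hsP.trans (sup_le_sup_right htk _)) (hit₁.trans le_sup_left)
  let T' := {r : V ≃ₗ[ZMod 2] V // r ∈ stabF H k' ∧ r * r = 1 ∧ r ≠ 1}
  have hnc : ∀ r : T', r.1 ≠ s → t * r.1 ≠ r.1 * t := by
    rintro ⟨r, hr, hr2, hrne⟩ hrs hct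
    have hrr := hk'.isRefl hbin hirr hr hr2 hrne
    have hrWJ : Im r ≤ Im k ⊔ Im g := (hk'.im_le hbin hirr hr).trans hWJ
    rcases hk.trichotomy hbin hirr hrr with h1 | ⟨h1, -⟩ | h1
    · by_cases hrt : r = t
      · exact htk' (hrt ▸ hr)
      · exact (hk.pair_spec hbin hirr h1 hr2 hrne ht ht2 htne hrt).2.2 hct.symm
    · obtain ⟨z, hz, hz0⟩ := hrr.im_ne_bot
      obtain ⟨w, hw, j, hj, hwj⟩ := Submodule.mem_sup.1 (hrWJ hz)
      have hw0 : w = 0 := hFW (by
        have := sub_mem (h1 hz) (hgF hj)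
        rwa [← hwj, add_sub_cancel_right] at this) hw
      rw [hw0, zero_add] at hwj
      exact hgk' (hrr.unique hbin hirr hgr hz0 hz (hwj ▸ hj) ▸ hr)
    · obtain ⟨t', ht', ht'2, ht'ne, -, huni, hle'⟩ := h1.exists_invol hbin hirr hk
      have htt : t = t' := huni t ht ht2 htne hct
      subst htt
      have hrP : Im r ≤ P := by
        intro z hz
        obtain ⟨w, hw, j, hj, hwj⟩ := Submodule.mem_sup.1 (hrWJ hz)
        obtain ⟨f, hf, i, hi, hfi⟩ := Submodule.mem_sup.1 (hle' hz)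
        have e : f - j = w - i := by
          rw [sub_eq_sub_iff_add_eq_add, hfi, hwj]
        have hfj : f = j := sub_eq_zero.1
          (hFW (sub_mem hf (hgF hj)) (e ▸ sub_mem hw (htk hi)))
        rw [← hfi, hfj, add_comm]
        exact Submodule.add_mem_sup hi hj
      have hW'P : Im k' ≤ P := by
        rw [(hk'.pair_spec hbin hirr hr hr2 hrne hsk' hsr.2.1 hsr.2.2.1 hrs).2.1]
        exact sup_le hrP hsP
      obtain ⟨z, hz, hz0⟩ := ht₁r.im_ne_bot
      exact ht₁t (ht₁r.unique hbin hirr htr hz0 hz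
        (hPW (hW'P (hk'.im_le hbin hirr ht₁k' hz)) (hit₁ hz)))
  obtain ⟨o, ho, hoo, hot⟩ := hk.exists_conj hbin hirr ht₁ ht₁2 ht₁ne ht ht2 htne
  have hpt : ∀ r : T', r.1 ≠ s → ∃ kr p, IsBlock H kr ∧ t ∈ stabF H kr ∧ r.1 ∈ stabF H kr ∧
      p ∈ stabF H kr ∧ p * p = 1 ∧ p ≠ 1 ∧ p ≠ t ∧ p ≠ g ∧
      IsRefl H (o * p * o⁻¹) ∧ Im (o * p * o⁻¹) ≤ P ∧ o * p * o⁻¹ ≠ g := by
    intro r hrs
    have hrr := hk'.isRefl hbin hirr r.2.1 r.2.2.1 r.2.2.2
    obtain ⟨kr, hkr, htkr, hrkr, -⟩ := htr.exists_common_block hbin hirr hrr (hnc r hrs)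
    have hrt : t ≠ r.1 := fun h => htk' (h ▸ r.2.1)
    have hWr : Im kr = Im t ⊔ Im r.1 :=
      (hkr.pair_spec hbin hirr htkr ht2 htne hrkr r.2.2.1 r.2.2.2 hrt).2.1
    obtain ⟨z, hz, hz0⟩ : ∃ z ∈ Im kr ⊓ (Im t₁ ⊔ Im g), z ≠ 0 := by
      refine Submodule.exists_mem_ne_zero_of_ne_bot fun h0 => ?_
      have h1 := Submodule.finrank_sup_add_finrank_inf_eq (Im kr) (Im t₁ ⊔ Im g)
      rw [h0, finrank_bot, add_zero] at h1
      have h2 : Im kr ⊔ (Im t₁ ⊔ Im g) ≤ Im k ⊔ Im g := by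
        rw [hWr]
        exact sup_le (sup_le (htk.trans le_sup_left) ((hk'.im_le hbin hirr r.2.1).trans hWJ))
          (sup_le_sup_right hit₁ _)
      have h3 := Submodule.finrank_mono h2
      have h4 := Submodule.finrank_add_le_finrank_add_finrank (Im k) (Im g)
      have h5 := Submodule.finrank_sup_add_finrank_inf_eq (Im t₁) (Im g)
      have ht₁g : t₁ ≠ g := fun h => by
        obtain ⟨z, hz, hz0⟩ := ht₁r.im_ne_bot
        exact hz0 (hFW (hgF (h ▸ hz)) (hit₁ hz))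
      rw [ht₁r.disjoint hbin hirr hgr ht₁g, finrank_bot, add_zero, hm' ht₁r, hm' hgr] at h5
      have h6 : Module.finrank (ZMod 2) (Im kr) = 2 * m' := by
        show codimFix kr = _
        have := hk.codimFix_eq hkr
        omega
      have h7 : Module.finrank (ZMod 2) (Im k) = 2 * m' := hm
      have h8 := hm' hgr
      omega
    obtain ⟨hzkr, hzP₁⟩ := Submodule.mem_inf.1 hz
    obtain ⟨p, hp, hp2, hpne, hzp⟩ := hkr.exists_cover hbin hirr hzkr hz0
    have hpt' : p ≠ t := by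
      rintro rfl
      obtain ⟨i₁, hi₁, j, hj, hij⟩ := Submodule.mem_sup.1 hzP₁
      have hj0 : j = 0 := hFW (hgF hj) (by
        have := sub_mem (htk (hij.symm ▸ hzp : i₁ + j ∈ Im p)) (hit₁ hi₁)
        rwa [add_sub_cancel_left] at this)
      rw [hj0, add_zero] at hij
      exact ht₁t (ht₁r.unique hbin hirr htr hz0 (hij ▸ hi₁) hzp)
    have hpg : p ≠ g := by
      rintro rfl
      exact (hkr.pair_spec hbin hirr hp hp2 hpne htkr ht2 htne hpt').2.2 hgt
    have hpr := (hkr.isRefl hbin hirr hp hp2 hpne).conj ho.1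
    have hoz : o z ∈ Im (o * p * o⁻¹) := by
      rw [← map_im]; exact Submodule.mem_map_of_mem hzp
    have hozP : o z ∈ P := by
      obtain ⟨i₁, hi₁, j, hj, hij⟩ := Submodule.mem_sup.1 hzP₁
      rw [← hij, map_add, mem_fx.1 (ho.2 (hgF hj))]
      refine Submodule.add_mem_sup ?_ hj
      rw [← hot, ← map_im]
      exact Submodule.mem_map_of_mem hi₁
    refine ⟨kr, p, hkr, htkr, hrkr, hp, hp2, hpne, hpt', hpg, hpr,
      hinP _ hpr _ hoz (fun h => hz0 (o.injective (h.trans (map_zero o).symm))) hozP,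
      fun h => hpg ?_⟩
    have h1 : o * g * o⁻¹ = g := by rw [← hgo o ho hoo, mul_inv_cancel_right]
    exact mul_left_cancel (mul_right_cancel (h.trans h1.symm))
  choose kr p hkr htkr hrkr hp hp2 hpne hpt' _ hpr hprP hprg using hpt
  let f : T' → R' := fun r =>
    if h : r.1 = s then ⟨g, hgr, le_sup_right⟩ else ⟨o * p r h * o⁻¹, hpr r h, hprP r h⟩
  have hfinj : Function.Injective f := by
    intro a b hab
    simp only [f] at hab
    split_ifs at hab with ha hb hb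
    · exact Subtype.ext (ha.trans hb.symm)
    · exact absurd (congrArg Subtype.val hab).symm (hprg b hb)
    · exact absurd (congrArg Subtype.val hab) (hprg a ha)
    · by_contra hne
      have hpp : p a ha = p b hb :=
        mul_left_cancel (mul_right_cancel (congrArg Subtype.val hab))
      have e1 := ((hkr a ha).pair_spec hbin hirr (htkr a ha) ht2 htne (hp a ha) (hp2 a ha)
        (hpne a ha) (hpt' a ha).symm).1
      have e2 := ((hkr b hb).pair_spec hbin hirr (htkr b hb) ht2 htne (hp b hb) (hp2 b hb)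
        (hpne b hb) (hpt' b hb).symm).1
      rw [← hpp] at e2
      have hbS : b.1 ∈ stabF H (kr a ha) := by
        rw [IsBlock.stabF_eq_of_fx_eq (e1.trans e2.symm)]
        exact hrkr b hb
      have e3 := ((hkr a ha).pair_spec hbin hirr (hrkr a ha) a.2.2.1 a.2.2.2 hbS b.2.2.1 b.2.2.2
        (fun h => hne (Subtype.ext h))).1
      have e4 := (hk'.pair_spec hbin hirr a.2.1 a.2.2.1 a.2.2.2 b.2.1 b.2.2.1 b.2.2.2
        (fun h => hne (Subtype.ext h))).1
      apply htk'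
      rw [← IsBlock.stabF_eq_of_fx_eq (e3.trans e4.symm)]
      exact htkr a ha
  have hlower := Nat.card_le_card_of_injective f hfinj
  rw [hT'card, Nat.card_eq_fintype_card] at hlower
  have heq : Fintype.card R' = 2 ^ m' + 1 := le_antisymm hupper hlower
  rw [heq, Nat.even_add_one] at heven
  exact heven ((Nat.even_pow).2 ⟨even_two, hm0.ne'⟩)

end Cfsg.Agent.BinaryAffine
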