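import Mathlib.RingTheory.Adjoin.Basic
import Cfsg.Agent.BinaryAffine.Skew
import Cfsg.Agent.BinaryAffine.Finish

/-!
Binary irreducible linear groups in characteristic two: the block is the whole space, so the group
is trivial on a line or the full orthogonal group of an anisotropic plane.
-/

set_option autoImplicit false

namespace Cfsg.Agent.BinaryAffine

variable {V : Type} [AddCommGroup V] [Module (ZMod 2) V] [Finite V]
variable {H : Subgroup (V ≃ₗ[ZMod 2] V)}

/-- The fixed space of a block is zero. -/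
theorem IsBlock.fx_eq_bot (hbin : Bin H) (hirr : Irr H) {k : V ≃ₗ[ZMod 2] V} (hk : IsBlock H k) :
    Fx k = ⊥ := by
  by_contra hF
  have hFW : ∀ {x}, x ∈ Fx k → x ∈ Im k → x = 0 := fun {x} h1 h2 => by
    have : x ∈ Fx k ⊓ Im k := Submodule.mem_inf.2 ⟨h1, h2⟩
    rwa [(isCompl_fx_im hk.odd).inf_eq_bot, Submodule.mem_bot] at this
  obtain ⟨h, hh, hW⟩ : ∃ h ∈ H, ∃ x ∈ Im k, h x ∉ Im k := by
    by_contra hcon
    push Not at hcon
    rcases hirr (Im k) hcon with h1 | h1
    · exact hk.ne_one (im_eq_bot_iff.1 h1)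
    · apply hF
      have h2 := (isCompl_fx_im hk.odd).inf_eq_bot
      rwa [h1, inf_top_eq] at h2
  set k' := h * k * h⁻¹ with hk'def
  have hk' : IsBlock H k' :=
    ⟨mul_mem (mul_mem hh hk.mem) (inv_mem hh), fun h1 => hk.ne_one (conj_eq_one_iff.1 h1), by
      rw [hk'def]
      exact (orderOf_injective (MulAut.conj h).toMonoidHom (MulAut.conj h).injective k).symm ▸ hk.odd, fun x hx h1 h2 => by
      rw [hk'def, codimFix_conj]; exact hk.min x hx h1 h2⟩
  have hWne : ¬ Im k' ≤ Im k := fun hle => by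
    obtain ⟨x, hx, hxW⟩ := hW
    exact hxW (hle (by rw [hk'def, ← map_im]; exact Submodule.mem_map_of_mem hx))
  -- every involution of the second block centralises the first
  have hout : ∀ t' ∈ stabF H k', t' * t' = 1 → t' ≠ 1 → Im t' ≤ Fx k ∧ Im k ≤ Fx t' := by
    intro t' ht' ht'2 ht'ne
    have ht'r := hk'.isRefl hbin hirr ht' ht'2 ht'ne
    rcases hk.trichotomy hbin hirr ht'r with h1 | h1 | h1
    · exfalso
      -- then every involution of the second block is in the first
      apply hWne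
      intro w hw
      by_cases hw0 : w = 0
      · rw [hw0]; exact zero_mem _
      obtain ⟨r, hr, hr2, hrne, hwr⟩ := hk'.exists_cover hbin hirr hw hw0
      have hrr := hk'.isRefl hbin hirr hr hr2 hrne
      rcases hk.trichotomy hbin hirr hrr with h2 | ⟨-, h2⟩ | h2
      · exact hk.im_le hbin hirr h2 hwr
      · obtain ⟨z, hz, hz0⟩ := ht'r.im_ne_bot
        have hc := ht'r.commute_of_fix hbin hirr hr.1 hz0 hz
          (mem_fx.1 (h2 (hk.im_le hbin hirr h1 hz)))
        by_cases hrt : r = t'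
        · rw [hrt] at hwr
          exact hk.im_le hbin hirr h1 hwr
        · exact absurd hc (hk'.pair_spec hbin hirr hr hr2 hrne ht' ht'2 ht'ne hrt).2.2
      · exact (not_isSkew hbin hirr hk h2).elim
    · exact h1
    · exact (not_isSkew hbin hirr hk h1).elim
  have hW'F : Im k' ≤ Fx k := by
    intro w hw
    by_cases hw0 : w = 0
    · rw [hw0]; exact zero_mem _
    obtain ⟨r, hr, hr2, hrne, hwr⟩ := hk'.exists_cover hbin hirr hw hw0
    exact (hout r hr hr2 hrne).1 hwr
  -- the distinguished tuples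
  obtain ⟨t, ht, ht2, htne⟩ := hk.exists_invol hbin
  set t' := h * t * h⁻¹ with ht'def
  have ht'S : t' ∈ stabF H k' := ⟨mul_mem (mul_mem hh ht.1) (inv_mem hh), by
    rw [ht'def, hk'def, ← map_fx, ← map_fx]
    exact Submodule.map_mono ht.2⟩
  have ht'2 : t' * t' = 1 := by
    rw [ht'def, show h * t * h⁻¹ * (h * t * h⁻¹) = h * (t * t) * h⁻¹ by group, ht2, mul_one,
      mul_inv_cancel]
  have ht'ne : t' ≠ 1 := fun h1 => htne (conj_eq_one_iff.1 h1)
  obtain ⟨ht'F, hWt'⟩ := hout t' ht'S ht'2 ht'ne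
  obtain ⟨e, he, he0⟩ : ∃ e ∈ Im t, e ≠ 0 :=
    Submodule.exists_mem_ne_zero_of_ne_bot fun h1 => htne (im_eq_bot_iff.1 h1)
  have heW : e ∈ Im k := hk.im_le hbin hirr ht he
  obtain ⟨x, hxW, hxt⟩ : ∃ x ∈ Im k, t x ≠ x := by
    by_contra hcon
    push Not at hcon
    apply htne
    refine fx_eq_top_iff.1 (top_unique ?_)
    rw [← (isCompl_fx_im hk.odd).sup_eq_top]
    exact sup_le ht.2 fun x hx => mem_fx.2 (hcon x hx)
  set e' := t x - x with he'
  have he'W : e' ∈ Im k := hk.im_le hbin hirr ht (sub_mem_im t x)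
  have he'0 : e' ≠ 0 := sub_ne_zero.2 hxt
  set f' := h e' with hf'
  set y := h x with hy
  have hyF : y ∈ Fx k := hW'F (by rw [hk'def, ← map_im]; exact Submodule.mem_map_of_mem hxW)
  have hf'F : f' ∈ Fx k := hW'F (by rw [hk'def, ← map_im]; exact Submodule.mem_map_of_mem he'W)
  have htP : t (x + y) = x + y + e' := by
    rw [map_add, mem_fx.1 (ht.2 hyF), he']; abel
  have ht'y : t' y = y + f' := by
    rw [hy, ht'def, conj_inv_apply, hf', ← map_add, he']
    congr 1; abel
  have ht'P : t' (x + y) = x + y + f' := by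
    rw [map_add, mem_fx.1 (hWt' hxW), ht'y]; abel
  have hte : t e = e := mem_fx.1 (im_le_fx_of_sq ht2 he)
  have hte' : t e' = e' := mem_fx.1 (im_le_fx_of_sq ht2 (sub_mem_im t x))
  have ht'e : t' e = e := mem_fx.1 (hWt' heW)
  let a : Fin 3 → V := ![e, x + y, x + y + e']
  let b : Fin 3 → V := ![e, x + y, x + y + f']
  have hM : (t' * t) (x + y + e') = x + y + f' := by
    rw [LinearEquiv.mul_apply, map_add, htP, hte', add_assoc, add_self_two, add_zero, ht'P]
  have hMe : (t' * t) e = e := by rw [LinearEquiv.mul_apply, hte, ht'e]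
  have hpt : ∀ i, ∃ g ∈ H, g (a i) = b i := by
    intro i
    fin_cases i
    · exact ⟨1, one_mem H, rfl⟩
    · exact ⟨1, one_mem H, rfl⟩
    · exact ⟨t' * t, mul_mem ht'S.1 ht.1, hM⟩
  have hdiff : ∀ i j, ∃ g ∈ H, g (a i - a j) = b i - b j := by
    intro i j
    fin_cases i <;> fin_cases j
    · exact ⟨1, one_mem H, rfl⟩
    · exact ⟨1, one_mem H, rfl⟩
    · refine ⟨t' * t, mul_mem ht'S.1 ht.1, ?_⟩
      show (t' * t) (e - (x + y + e')) = e - (x + y + f')
      rw [map_sub, hM, hMe]
    · exact ⟨1, one_mem H, rfl⟩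
    · exact ⟨1, one_mem H, rfl⟩
    · refine ⟨h, hh, ?_⟩
      show h (x + y - (x + y + e')) = x + y - (x + y + f')
      rw [sub_add_cancel_left, sub_add_cancel_left, map_neg]
    · refine ⟨t' * t, mul_mem ht'S.1 ht.1, ?_⟩
      show (t' * t) (x + y + e' - e) = x + y + f' - e
      rw [map_sub, hM, hMe]
    · refine ⟨h, hh, ?_⟩
      show h (x + y + e' - (x + y)) = x + y + f' - (x + y)
      rw [add_sub_cancel_left, add_sub_cancel_left]
    · exact ⟨1, one_mem H, by simp⟩
  obtain ⟨g, hg, hgi⟩ := hbin (Fin 3) a b hpt hdiff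
  have hge : g e = e := hgi 0
  have hge' : g e' = f' := by
    have h1 : g (x + y) = x + y := hgi 1
    have h2 : g (x + y + e') = x + y + f' := hgi 2
    rw [map_add, h1] at h2
    exact add_left_cancel h2
  -- `g` preserves `W`
  set kg := g * k * g⁻¹ with hkg
  have hkgB : IsBlock H kg :=
    ⟨mul_mem (mul_mem hg hk.mem) (inv_mem hg), fun h1 => hk.ne_one (conj_eq_one_iff.1 h1), by
      rw [hkg]
      exact (orderOf_injective (MulAut.conj g).toMonoidHom (MulAut.conj g).injective k).symm ▸ hk.odd, fun z hz h1 h2 => by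
      rw [hkg, codimFix_conj]; exact hk.min z hz h1 h2⟩
  have hekg : e ∈ Im kg := by
    rw [hkg, ← map_im, ← hge]
    exact Submodule.mem_map_of_mem heW
  have hf'kg : f' ∈ Im kg := by
    rw [hkg, ← map_im, ← hge']
    exact Submodule.mem_map_of_mem he'W
  obtain ⟨r, hr, hr2, hrne, hfr⟩ := hkgB.exists_cover hbin hirr hf'kg
    (fun h0 => he'0 (h.injective (h0.trans (map_zero h).symm)))
  have hrr := hkgB.isRefl hbin hirr hr hr2 hrne
  have hf0 : f' ≠ 0 := fun h0 => he'0 (h.injective (h0.trans (map_zero h).symm))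
  rcases hk.trichotomy hbin hirr hrr with h1 | ⟨h1, h1'⟩ | h1
  · exact hf0 (hFW hf'F (hk.im_le hbin hirr h1 hfr))
  · obtain ⟨r₀, hr₀, hr₀2, hr₀ne, her⟩ := hkgB.exists_cover hbin hirr hekg he0
    have hr₀r := hkgB.isRefl hbin hirr hr₀ hr₀2 hr₀ne
    have hc := hr₀r.commute_of_fix hbin hirr hr.1 he0 her (mem_fx.1 (h1' heW))
    by_cases hrr₀ : r = r₀
    · exact he0 (hFW (h1 (hrr₀ ▸ her)) heW)
    · exact (hkgB.pair_spec hbin hirr hr hr2 hrne hr₀ hr₀2 hr₀ne hrr₀).2.2 hc
  · exact not_isSkew hbin hirr hk h1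

/-- The classification in characteristic two. -/
theorem two_case [Nontrivial V] (hbin : Bin H) (hirr : Irr H) :
    (Nat.card V = 2 ∧ Nat.card H ≤ 2) ∨
    ∃ (F E : Type) (_ : Field F) (_ : Fintype F) (_ : Field E) (_ : Fintype E) (_ : Algebra F E)
      (e : V ≃+ E), Module.finrank F E = 2 ∧
      ∀ f : V → V, (∃ h ∈ H, ∀ v, h v = f v) ↔
        ∃ (a : E) (φ : E ≃ₐ[F] E), Algebra.norm F a = 1 ∧ ∀ v, e (f v) = a * φ (e v) := by
  classical
  by_cases hodd : ∃ k, k ∈ H ∧ k ≠ 1 ∧ Odd (orderOf k)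
  · right
    obtain ⟨k₀, ⟨hk₀, hk₀1, hk₀o⟩, hmin⟩ :=
      Set.exists_min_image {k | k ∈ H ∧ k ≠ 1 ∧ Odd (orderOf k)} codimFix (Set.toFinite _) hodd
    have hk : IsBlock H k₀ := ⟨hk₀, hk₀1, hk₀o, fun k hk h1 h2 => hmin k ⟨hk, h1, h2⟩⟩
    have hF := hk.fx_eq_bot hbin hirr
    have hS : ∀ h ∈ H, h ∈ stabF H k₀ := fun h hh => ⟨hh, hF ▸ bot_le⟩
    have hW : Im k₀ = ⊤ := by
      have h1 := (isCompl_fx_im hk₀o).sup_eq_top
      rwa [hF, bot_sup_eq] at h1
    obtain ⟨u, hu, hu2, hune⟩ := hk.exists_invol hbin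
    obtain ⟨w₀, hw₀, hw₀0⟩ : ∃ w ∈ Im u, w ≠ 0 :=
      Submodule.exists_mem_ne_zero_of_ne_bot fun h1 => hune (im_eq_bot_iff.1 h1)
    let gen : Set (Module.End (ZMod 2) V) :=
      {a | ∃ o ∈ stabF H k₀, Odd (orderOf o) ∧ a = o.toLinearMap}
    let K := Algebra.adjoin (ZMod 2) gen
    have hgen : ∀ o ∈ stabF H k₀, Odd (orderOf o) → o.toLinearMap ∈ K := fun o ho hoo =>
      Algebra.subset_adjoin ⟨o, ho, hoo, rfl⟩
    have hcomm : ∀ a ∈ K, ∀ b ∈ K, a * b = b * a := by
      intro a ha b hb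
      induction ha, hb using Algebra.adjoin_induction₂ with
      | mem_mem a b ha hb =>
        obtain ⟨o, ho, hoo, rfl⟩ := ha
        obtain ⟨o', ho', ho'o, rfl⟩ := hb
        exact LinearMap.ext fun x =>
          LinearEquiv.congr_fun (hk.odd_comm hbin hirr ho hoo ho' ho'o) x
      | algebraMap_both r r' => exact Algebra.commutes r _
      | algebraMap_left r a _ => exact Algebra.commutes r a
      | algebraMap_right r a _ => exact (Algebra.commutes r a).symm
      | add_left a b c _ _ _ h1 h2 => rw [add_mul, mul_add, h1, h2]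
      | add_right a b c _ _ _ h1 h2 => rw [mul_add, add_mul, h1, h2]
      | mul_left a b c _ _ _ h1 h2 => rw [mul_assoc, h2, ← mul_assoc, h1, mul_assoc]
      | mul_right a b c _ _ _ h1 h2 => rw [← mul_assoc, h1, mul_assoc, h2, ← mul_assoc]
    refine finish H K u w₀ hw₀0 hcomm ?_ ?_ (fun v => ?_) (mem_fx.1 (im_le_fx_of_sq hu2 hw₀))
      ?_ ?_ ?_ ?_
    · intro a ha v hv
      rcases hk.irreducible hbin hirr (U := LinearMap.ker a) (hW ▸ le_top)
        (fun o ho hoo x hx => by
          rw [LinearMap.mem_ker] at hx ⊢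
          show (a * o.toLinearMap) x = 0
          rw [hcomm a ha _ (hgen o ho hoo), Module.End.mul_apply, hx, map_zero]) with h1 | h1
      · right
        rw [← Submodule.mem_bot (ZMod 2), ← h1]
        exact hv
      · left
        exact LinearMap.ker_eq_top.1 (h1.trans hW)
    · intro v
      let U : Submodule (ZMod 2) V :=
        (Subalgebra.toSubmodule K).map (LinearMap.applyₗ w₀)
      have hUtop : U = ⊤ := by
        rcases hk.irreducible hbin hirr (U := U) (hW ▸ le_top) (fun o ho hoo x hx => by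
          obtain ⟨a, ha, rfl⟩ := hx
          exact ⟨o.toLinearMap * a, (Subalgebra.mem_toSubmodule _).2 (mul_mem (hgen o ho hoo)
            ((Subalgebra.mem_toSubmodule _).1 ha)), rfl⟩) with h1 | h1
        · exfalso
          have : w₀ ∈ U := ⟨1, one_mem K, rfl⟩
          rw [h1, Submodule.mem_bot] at this
          exact hw₀0 this
        · exact h1.trans hW
      have hv : v ∈ U := hUtop ▸ Submodule.mem_top
      exact hv
    · rw [← LinearEquiv.mul_apply, hu2]
      rfl
    · intro a ha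
      induction ha using Algebra.adjoin_induction with
      | mem a ha =>
        obtain ⟨o, ho, hoo, rfl⟩ := ha
        have h1 := hgen o⁻¹ (inv_mem ho) (by rw [orderOf_inv]; exact hoo)
        rw [← hk.inv_odd hbin hirr hu hu2 hune ho hoo] at h1
        exact h1
      | algebraMap r =>
        rw [← Algebra.commutes r u.toLinearMap, mul_assoc,
          show u.toLinearMap * u.toLinearMap = 1 from LinearMap.ext fun x =>
            LinearEquiv.congr_fun hu2 x, mul_one]
        exact Subalgebra.algebraMap_mem K r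
      | add a b _ _ h1 h2 => rw [mul_add, add_mul]; exact add_mem h1 h2
      | mul a b _ _ h1 h2 =>
        have h3 : u.toLinearMap * (a * b) * u.toLinearMap =
            (u.toLinearMap * a * u.toLinearMap) * (u.toLinearMap * b * u.toLinearMap) := by
          simp only [mul_assoc]
          rw [← mul_assoc u.toLinearMap u.toLinearMap,
            show u.toLinearMap * u.toLinearMap = 1 from LinearMap.ext fun x =>
              LinearEquiv.congr_fun hu2 x, one_mul]
        rw [h3]
        exact mul_mem h1 h2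
    · refine ⟨k₀.toLinearMap, hgen k₀ ⟨hk₀, le_rfl⟩ hk₀o, fun heq => hk₀1 ?_⟩
      have h1 := hk.inv_odd hbin hirr hu hu2 hune ⟨hk₀, le_rfl⟩ hk₀o
      have h2 : u * k₀ * u = k₀ := LinearEquiv.ext fun x => LinearMap.congr_fun heq x
      rw [h2] at h1
      have h3 : k₀ ^ 2 = 1 := by rw [pow_two]; exact mul_eq_one_iff_eq_inv.2 h1
      obtain ⟨c, hc⟩ := hk₀o
      have h4 : (k₀ ^ 2) ^ (c + 1) = k₀ := by
        rw [← pow_mul, show 2 * (c + 1) = orderOf k₀ + 1 by omega, pow_succ, pow_orderOf_eq_one,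
          one_mul]
      rw [← h4, h3, one_pow]
    · intro h hh
      have hnorm : ∀ o ∈ stabF H k₀, Odd (orderOf o) → ∀ v, o (u (o (u v))) = v := by
        intro o ho hoo v
        have h1 := LinearEquiv.congr_fun (hk.inv_odd hbin hirr hu hu2 hune ho hoo) v
        rw [LinearEquiv.mul_apply, LinearEquiv.mul_apply] at h1
        rw [h1]
        exact o.apply_symm_apply v
      by_cases hho : Odd (orderOf h)
      · exact ⟨h.toLinearMap, hgen h (hS h hh) hho, hnorm h (hS h hh) hho, Or.inl fun v => rfl⟩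
      · obtain ⟨hh2, hhne⟩ := hk.sq_of_not_odd hbin hirr (hS h hh) hho
        have ho := hk.odd_invol_mul hbin hirr hu hu2 hune (hS h hh) hh2 hhne
        have hoS : h * u ∈ stabF H k₀ := mul_mem (hS h hh) hu
        refine ⟨(h * u).toLinearMap, hgen _ hoS ho, hnorm _ hoS ho, Or.inr fun v => ?_⟩
        show h v = (h * u) (u v)
        rw [← LinearEquiv.mul_apply, mul_assoc, hu2, mul_one]
    · intro v hv
      obtain ⟨t, ht, ht2, htne, hvt⟩ := hk.exists_cover hbin hirr (hW ▸ Submodule.mem_top) hv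
      exact ⟨t, ht.1, htne, mem_fx.1 (im_le_fx_of_sq ht2 hvt)⟩
  · left
    push Not at hodd
    have htriv : ∀ h ∈ H, h = 1 := by
      intro h hh
      have hp : IsPGroup 2 (⊤ : Subgroup H) := by
        rintro ⟨⟨x, hx⟩, -⟩
        obtain ⟨a, b, hb, hab⟩ :=
          Nat.exists_eq_pow_mul_and_not_dvd (orderOf_pos x).ne' 2 (by decide)
        have ho : orderOf (x ^ 2 ^ a) = b := by
          rw [orderOf_pow_of_dvd (by positivity) ⟨b, hab⟩, hab,
            Nat.mul_div_cancel_left _ (by positivity)]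
        refine ⟨a, Subtype.ext (Subtype.ext ?_)⟩
        show x ^ 2 ^ a = 1
        by_contra hne
        exact hodd _ (pow_mem hx _) hne (by rw [ho]; exact Nat.odd_iff.2 (by omega))
      exact congrArg Subtype.val (eq_one_of_mem_normal_two hirr (inferInstance : (⊤ : Subgroup H).Normal) hp
        (Subgroup.mem_top (⟨h, hh⟩ : H)))
    refine ⟨?_, ?_⟩
    · obtain ⟨v, hv⟩ := exists_ne (0 : V)
      have htop : Submodule.span (ZMod 2) {v} = ⊤ := by
        refine (hirr _ fun h hh x hx => ?_).resolve_left fun hb => hv ?_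
        · rw [htriv h hh]; exact hx
        · rwa [Submodule.span_singleton_eq_bot] at hb
      rw [← Nat.card_congr ((LinearEquiv.toSpanNonzeroSingleton (ZMod 2) V v hv).trans
        ((LinearEquiv.ofEq _ _ htop).trans Submodule.topEquiv)).toEquiv, Nat.card_zmod]
    · have : Subsingleton H :=
        ⟨fun a b => Subtype.ext ((htriv a.1 a.2).trans (htriv b.1 b.2).symm)⟩
      exact (Finite.card_le_one_iff_subsingleton.2 this).trans (by norm_num)

end Cfsg.Agent.BinaryAffine
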