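import Mathlib.GroupTheory.GroupAction.Primitive
import Mathlib.LinearAlgebra.FreeModule.Finite.Basic
import Cfsg.Agent.BinaryAffine.Odd
import Cfsg.Agent.BinaryAffine.Two

/-!
Binary primitive permutation groups with a non-trivial abelian normal subgroup.
-/

set_option autoImplicit false

namespace Cfsg.Agent.BinaryAffine

/-- The two cases of the linear classification together. -/
theorem linear_case {p : ℕ} [Fact p.Prime] {V : Type} [AddCommGroup V] [Module (ZMod p) V]
    [Finite V] [Nontrivial V] {H : Subgroup (V ≃ₗ[ZMod p] V)} (hbin : Bin H) (hirr : Irr H) :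
    (Nat.card V = p ∧ Nat.card H ≤ 2) ∨
    ∃ (F E : Type) (_ : Field F) (_ : Fintype F) (_ : Field E) (_ : Fintype E) (_ : Algebra F E)
      (e : V ≃+ E), Module.finrank F E = 2 ∧
      ∀ f : V → V, (∃ h ∈ H, ∀ v, h v = f v) ↔
        ∃ (a : E) (φ : E ≃ₐ[F] E), Algebra.norm F a = 1 ∧ ∀ v, e (f v) = a * φ (e v) := by
  by_cases hp : p = 2
  · subst hp
    exact two_case hbin hirr
  · exact odd_case hp hbin hirr

section

variable {G Ω : Type*} [Group G] [MulAction G Ω] [FaithfulSMul G Ω]

/-- A transitive abelian subgroup of a faithful group is regular. -/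
theorem eq_one_of_smul_eq {N : Subgroup G} [MulAction.IsPretransitive N Ω]
    [IsMulCommutative ↥N] {n : N} {ω : Ω} (h : n • ω = ω) : n = 1 := by
  apply Subtype.ext
  apply eq_of_smul_eq_smul (α := Ω)
  intro x
  obtain ⟨m, rfl⟩ := MulAction.exists_smul_eq N ω x
  rw [Subgroup.coe_one, one_smul]
  show n.1 • (m • ω) = m • ω
  rw [← Subgroup.smul_def n, ← mul_smul, mul_comm' n m, mul_smul, h]

/-- A non-trivial normal subgroup of a primitive faithful group is transitive. -/
theorem pretransitive_of_normal [MulAction.IsPreprimitive G Ω] {M : Subgroup G} [M.Normal]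
    (hM : M ≠ ⊥) : MulAction.IsPretransitive M Ω := by
  refine MulAction.IsQuasiPreprimitive.isPretransitive_of_normal fun hfix => hM ?_
  rw [eq_bot_iff]
  intro m hm
  rw [Subgroup.mem_bot]
  apply eq_of_smul_eq_smul (α := Ω)
  intro x
  rw [one_smul]
  have hx : x ∈ MulAction.fixedPoints M Ω := hfix ▸ Set.mem_univ x
  exact hx ⟨m, hm⟩

/-- The classification of binary primitive groups with a non-trivial abelian normal subgroup. -/
theorem classify [Finite G] [Fintype Ω] (hprim : MulAction.IsPreprimitive G Ω)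
    (haff : ∃ N : Subgroup G, N.Normal ∧ N ≠ ⊥ ∧ IsMulCommutative ↥N)
    (hbin : ∀ (n : ℕ) (I J : Fin n → Ω), 2 ≤ n →
      (∀ i j : Fin n, i ≠ j → ∃ g : G, g • I i = J i ∧ g • I j = J j) → ∃ g : G, ∀ i, g • I i = J i) :
    ((Fintype.card Ω).Prime ∧ ∀ ω : Ω, Nat.card ↥(MulAction.stabilizer G ω) ≤ 2) ∨
    (∃ (F E : Type) (_ : Field F) (_ : Fintype F) (_ : Field E) (_ : Fintype E) (_ : Algebra F E)
      (e : Ω ≃ E),
        Module.finrank F E = 2 ∧
        ∀ σ : Equiv.Perm Ω, σ ∈ (MulAction.toPermHom G Ω).range ↔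
          ∃ (a b : E) (φ : E ≃ₐ[F] E), Algebra.norm F a = 1 ∧
            ∀ ω : Ω, e (σ ω) = a * φ (e ω) + b) := by
  classical
  obtain ⟨N, hNn, hN1, hNc⟩ := haff
  have hNtrans := pretransitive_of_normal (Ω := Ω) hN1
  have hne : Nonempty Ω := by
    by_contra hemp
    rw [not_nonempty_iff] at hemp
    apply hN1
    rw [eq_bot_iff]
    intro m _
    rw [Subgroup.mem_bot]
    exact eq_of_smul_eq_smul (α := Ω) fun x => isEmptyElim x
  obtain ⟨ω₀⟩ := hne
  -- the exponent
  have hcard1 : Nat.card N ≠ 1 := fun h1 => hN1 (Subgroup.card_eq_one.1 h1)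
  obtain ⟨p, hp, hpN⟩ := Nat.exists_prime_and_dvd hcard1
  have : Fact p.Prime := ⟨hp⟩
  let M : Subgroup G :=
    { carrier := {g | g ∈ N ∧ g ^ p = 1}
      one_mem' := ⟨one_mem N, one_pow p⟩
      mul_mem' := fun {a b} ha hb => ⟨mul_mem ha.1 hb.1, by
        have : Commute a b := congrArg Subtype.val (mul_comm' (⟨a, ha.1⟩ : N) ⟨b, hb.1⟩)
        rw [this.mul_pow, ha.2, hb.2, one_mul]⟩
      inv_mem' := fun {a} ha => ⟨inv_mem ha.1, by rw [inv_pow, ha.2, inv_one]⟩ }
  have hMn : M.Normal := ⟨fun a ha g => ⟨hNn.conj_mem a ha.1 g, by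
    rw [conj_pow, ha.2, mul_one, mul_inv_cancel]⟩⟩
  have hexp : ∀ n : N, n ^ p = 1 := by
    have hM1 : M ≠ ⊥ := by
      obtain ⟨x, hx⟩ := exists_prime_orderOf_dvd_card' p hpN
      intro h0
      have hmem : (x : G) ∈ M := ⟨x.2, by
        rw [← SubgroupClass.coe_pow, orderOf_dvd_iff_pow_eq_one.1 (dvd_of_eq hx),
          OneMemClass.coe_one]⟩
      rw [h0, Subgroup.mem_bot] at hmem
      rw [show x = 1 from Subtype.ext hmem, orderOf_one] at hx
      exact hp.ne_one hx.symm
    have := pretransitive_of_normal (Ω := Ω) hM1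
    intro n
    obtain ⟨m, hm⟩ := MulAction.exists_smul_eq M ω₀ (n • ω₀)
    have h1 : (n⁻¹ * ⟨m.1, m.2.1⟩ : N) • ω₀ = ω₀ := by
      rw [mul_smul, show (⟨m.1, m.2.1⟩ : N) • ω₀ = n • ω₀ from hm, inv_smul_smul]
    have h2 := inv_mul_eq_one.1 (eq_one_of_smul_eq h1)
    rw [h2]
    exact Subtype.ext (by rw [SubgroupClass.coe_pow]; exact m.2.2)
  -- the vector space
  let : CommGroup N := { (inferInstance : Group N) with mul_comm := fun a b => mul_comm' a b }
  have hz : ∀ x : Additive N, p • x = 0 := fun x => congrArg Additive.ofMul (hexp x.toMul)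
  have : Module (ZMod p) (Additive N) := AddCommGroup.zmodModule hz
  have : Finite (Additive N) := Finite.of_equiv N Additive.ofMul
  have : Module.Finite (ZMod p) (Additive N) := Module.Finite.of_finite
  let d := Module.finrank (ZMod p) (Additive N)
  let V := Fin d → ZMod p
  let bas : Module.Basis (Fin d) (ZMod p) (Additive N) := Module.finBasis (ZMod p) (Additive N)
  let ι : Additive N ≃ₗ[ZMod p] V := bas.equivFun
  let toN : V → N := fun v => (ι.symm v).toMul
  have htoN_add : ∀ v w, toN (v + w) = toN v * toN w := fun v w => by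
    show (ι.symm (v + w)).toMul = _
    rw [map_add]
    rfl
  have htoN_ofN : ∀ n : N, toN (ι (Additive.ofMul n)) = n := fun n => by
    show (ι.symm (ι (Additive.ofMul n))).toMul = n
    rw [LinearEquiv.symm_apply_apply]
    rfl
  have htoN_inj : Function.Injective toN := fun v w h =>
    ι.symm.injective (Additive.toMul.injective h)
  have hVnt : Nontrivial V := by
    obtain ⟨n, hn, hn1⟩ : ∃ n ∈ N, n ≠ (1 : G) := by
      by_contra hcon
      push Not at hcon
      exact hN1 (eq_bot_iff.2 fun x hx => Subgroup.mem_bot.2 (hcon x hx))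
    refine ⟨⟨ι (Additive.ofMul (1 : N)), ι (Additive.ofMul (⟨n, hn⟩ : N)), fun h => hn1 ?_⟩⟩
    exact (congrArg (fun x : Additive N => (x.toMul : G)) (ι.injective h)).symm
  -- the identification with the points
  have hbij : Function.Bijective fun v : V => toN v • ω₀ := by
    constructor
    · intro v w hvw
      apply htoN_inj
      have h1 : ((toN w)⁻¹ * toN v) • ω₀ = ω₀ := by
        rw [mul_smul, show toN v • ω₀ = toN w • ω₀ from hvw, inv_smul_smul]
      exact (inv_mul_eq_one.1 (eq_one_of_smul_eq h1)).symm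
    · intro ω
      obtain ⟨n, hn⟩ := MulAction.exists_smul_eq N ω₀ ω
      exact ⟨ι (Additive.ofMul n), by show toN _ • ω₀ = ω; rw [htoN_ofN, hn]⟩
  let ψ : Ω ≃ V := (Equiv.ofBijective _ hbij).symm
  have hψsymm : ∀ v, ψ.symm v = toN v • ω₀ := fun v => rfl
  -- conjugation
  let cn : G → (Additive N ≃ₗ[ZMod p] Additive N) := fun g =>
    ((MulAut.conjNormal g : N ≃* N).toAdditive).toLinearEquiv fun c x => ZMod.map_smul _ c x
  let ρ : G →* (V ≃ₗ[ZMod p] V) :=
    { toFun := fun g => (ι.symm.trans (cn g)).trans ι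
      map_one' := LinearEquiv.ext fun v => by
        show ι (Additive.ofMul (MulAut.conjNormal (1 : G) (toN v))) = v
        rw [map_one]
        show ι (ι.symm v) = v
        rw [LinearEquiv.apply_symm_apply]
      map_mul' := fun g g' => LinearEquiv.ext fun v => by
        show ι (Additive.ofMul (MulAut.conjNormal (g * g') (toN v))) =
          ι (Additive.ofMul (MulAut.conjNormal g
            (toN (ι (Additive.ofMul (MulAut.conjNormal g' (toN v)))))))
        rw [htoN_ofN, map_mul]
        rfl }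
  have hρ_toN : ∀ g v, (toN (ρ g v) : G) = g * toN v * g⁻¹ := fun g v => by
    rw [show toN (ρ g v) = MulAut.conjNormal g (toN v) from htoN_ofN _]
    exact MulAut.conjNormal_apply g (toN v)
  let H := (MulAction.stabilizer G ω₀).map ρ
  have hN_triv : ∀ m : N, ρ m.1 = 1 := fun m => LinearEquiv.ext fun v => htoN_inj (Subtype.ext (by
    rw [hρ_toN]
    have h1 : (m : G) * toN v = toN v * m := congrArg Subtype.val (mul_comm' m (toN v))
    rw [h1, mul_inv_cancel_right]
    rfl))
  have hdecomp : ∀ g : G, ∃ (b : V) (h : G), h • ω₀ = ω₀ ∧ g = toN b * h := by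
    intro g
    obtain ⟨v, hv⟩ := hbij.2 (g • ω₀)
    refine ⟨v, (toN v : G)⁻¹ * g, ?_, (mul_inv_cancel_left _ _).symm⟩
    rw [mul_smul, ← show toN v • ω₀ = g • ω₀ from hv, Subgroup.smul_def, inv_smul_smul]
  have haffine : ∀ (b : V) (h : G), h • ω₀ = ω₀ → ∀ ω, ψ ((toN b * h : G) • ω) = ρ h (ψ ω) + b := by
    intro b h hh ω
    apply ψ.symm.injective
    rw [Equiv.symm_apply_apply, hψsymm]
    conv_lhs => rw [← ψ.symm_apply_apply ω, hψsymm]
    rw [Subgroup.smul_def, Subgroup.smul_def, ← mul_smul, add_comm, htoN_add, Subgroup.coe_mul,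
      hρ_toN, show (toN b : G) * h * toN (ψ ω) = toN b * (h * toN (ψ ω) * h⁻¹) * h by
        simp [mul_assoc], mul_smul _ h, hh]
  have hto : ∀ g : G, ∃ h ∈ H, ∃ b : V, ∀ ω, ψ (g • ω) = h (ψ ω) + b := by
    intro g
    obtain ⟨b, h, hh, rfl⟩ := hdecomp g
    exact ⟨ρ h, ⟨h, hh, rfl⟩, b, haffine b h hh⟩
  have hfrom : ∀ h ∈ H, ∀ b : V, ∃ g : G, ∀ ω, ψ (g • ω) = h (ψ ω) + b := by
    rintro _ ⟨h, hh, rfl⟩ b
    exact ⟨toN b * h, haffine b h hh⟩
  -- binary
  have hbinH : Bin H := by
    intro κ _ a b hpt hdiff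
    rcases isEmpty_or_nonempty κ with hκ | hκ
    · exact ⟨1, one_mem H, fun i => isEmptyElim i⟩
    have : Fintype κ := Fintype.ofFinite κ
    let eo := Fintype.equivFin (Option κ)
    let a' : Option κ → V := fun o => o.elim 0 a
    let b' : Option κ → V := fun o => o.elim 0 b
    have hd : ∀ o o', ∃ h ∈ H, h (a' o - a' o') = b' o - b' o' := by
      rintro (_ | i) (_ | j)
      · exact ⟨1, one_mem H, by simp⟩
      · obtain ⟨h, hh, hi⟩ := hpt j
        exact ⟨h, hh, by simp [a', b', hi]⟩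
      · obtain ⟨h, hh, hi⟩ := hpt i
        exact ⟨h, hh, by simp [a', b', hi]⟩
      · exact hdiff i j
    obtain ⟨g, hg⟩ := hbin (Fintype.card (Option κ)) (fun i => ψ.symm (a' (eo.symm i)))
      (fun i => ψ.symm (b' (eo.symm i)))
      (by rw [Fintype.card_option]; have := Fintype.card_pos (α := κ); omega)
      (fun i j _ => by
        obtain ⟨h, hh, hhd⟩ := hd (eo.symm i) (eo.symm j)
        obtain ⟨g, hg⟩ := hfrom h hh (b' (eo.symm i) - h (a' (eo.symm i)))
        refine ⟨g, ψ.injective ?_, ψ.injective ?_⟩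
        · rw [hg, Equiv.apply_symm_apply, Equiv.apply_symm_apply]
          abel
        · rw [hg, Equiv.apply_symm_apply, Equiv.apply_symm_apply]
          rw [map_sub] at hhd
          rw [show h (a' (eo.symm j)) = h (a' (eo.symm i)) - (b' (eo.symm i) - b' (eo.symm j)) by
            rw [← hhd]; abel]
          abel)
    obtain ⟨h, hh, c, hc⟩ := hto g
    have hall : ∀ o, h (a' o) + c = b' o := fun o => by
      have := congrArg ψ (hg (eo o))
      rw [hc, Equiv.apply_symm_apply, Equiv.apply_symm_apply, Equiv.symm_apply_apply] at this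
      exact this
    have hc0 : c = 0 := by
      have := hall none
      rwa [show a' none = 0 from rfl, map_zero, zero_add, show b' none = 0 from rfl] at this
    exact ⟨h, hh, fun i => by
      have := hall (some i)
      rwa [hc0, add_zero] at this⟩
  -- irreducible
  have hirrH : Irr H := by
    intro U hU
    let MU : Subgroup G :=
      { carrier := {g | ∃ v ∈ U, (toN v : G) = g}
        one_mem' := ⟨0, zero_mem U, by
          show ((ι.symm 0).toMul : G) = 1
          rw [map_zero]; rfl⟩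
        mul_mem' := by
          rintro _ _ ⟨v, hv, rfl⟩ ⟨w, hw, rfl⟩
          exact ⟨v + w, add_mem hv hw, by rw [htoN_add]; rfl⟩
        inv_mem' := by
          rintro _ ⟨v, hv, rfl⟩
          refine ⟨-v, neg_mem hv, ?_⟩
          show ((ι.symm (-v)).toMul : G) = _
          rw [map_neg]; rfl }
    have hMUn : MU.Normal := by
      refine ⟨?_⟩
      rintro _ ⟨v, hv, rfl⟩ g
      refine ⟨ρ g v, ?_, hρ_toN g v⟩
      obtain ⟨b, h, hh, rfl⟩ := hdecomp g
      rw [map_mul, hN_triv, one_mul]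
      exact hU _ ⟨h, hh, rfl⟩ v hv
    by_cases h0 : MU = ⊥
    · left
      rw [eq_bot_iff]
      intro v hv
      have h1 : (toN v : G) ∈ MU := ⟨v, hv, rfl⟩
      rw [h0, Subgroup.mem_bot] at h1
      rw [Submodule.mem_bot]
      apply htoN_inj
      apply Subtype.ext
      rw [h1]
      show (1 : G) = ((ι.symm 0).toMul : G)
      rw [map_zero]; rfl
    · right
      have := pretransitive_of_normal (Ω := Ω) h0
      rw [eq_top_iff]
      intro v _
      obtain ⟨⟨_, w, hw, rfl⟩, hm⟩ := MulAction.exists_smul_eq MU ω₀ (toN v • ω₀)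
      have : w = v := hbij.1 hm
      rwa [← this]
  have hVΩ : Nat.card V = Fintype.card Ω := by
    rw [Nat.card_congr ψ.symm, Nat.card_eq_fintype_card]
  rcases linear_case hbinH hirrH with ⟨hV, hH⟩ | ⟨F, E, iF, iFf, iE, iEf, iA, e, hrank, hE⟩
  · left
    refine ⟨by rw [← hVΩ, hV]; exact hp, fun ω => ?_⟩
    have hst : Nat.card (MulAction.stabilizer G ω₀) ≤ 2 := by
      refine le_trans (le_of_eq (Nat.card_congr ?_)) hH
      refine Equiv.ofBijective (fun h => (⟨ρ h.1, h.1, h.2, rfl⟩ : H)) ⟨fun a b hab => ?_, ?_⟩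
      · apply Subtype.ext
        apply eq_of_smul_eq_smul (α := Ω)
        intro x
        apply ψ.injective
        have e1 := haffine 0 a.1 a.2 x
        have e2 := haffine 0 b.1 b.2 x
        rw [show ρ a.1 = ρ b.1 from congrArg Subtype.val hab] at e1
        have h0 : (toN 0 : G) = 1 := by
          show ((ι.symm 0).toMul : G) = 1
          rw [map_zero]; rfl
        rw [h0, one_mul] at e1 e2
        rw [e1, e2]
      · rintro ⟨_, h, hh, rfl⟩
        exact ⟨⟨h, hh⟩, rfl⟩
    have h1 := (MulAction.stabilizer G ω).card_mul_index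
    have h2 := (MulAction.stabilizer G ω₀).card_mul_index
    rw [MulAction.index_stabilizer_of_transitive] at h1 h2
    have h3 : 0 < Nat.card Ω := by
      have : Nonempty Ω := ⟨ω⟩
      exact Nat.card_pos
    rw [Nat.eq_of_mul_eq_mul_right h3 (h1.trans h2.symm)]
    exact hst
  · right
    refine ⟨F, E, iF, iFf, iE, iEf, iA, ψ.trans e.toEquiv, hrank, fun σ => ⟨?_, ?_⟩⟩
    · rintro ⟨g, rfl⟩
      obtain ⟨h, hh, b, hb⟩ := hto g
      obtain ⟨a, φ, ha, hf⟩ := (hE (fun v => h v)).1 ⟨h, hh, fun v => rfl⟩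
      refine ⟨a, e b, φ, ha, fun ω => ?_⟩
      show e (ψ (g • ω)) = a * φ (e (ψ ω)) + e b
      rw [hb, map_add, hf]
    · rintro ⟨a, b, φ, ha, hσ⟩
      obtain ⟨h, hh, hhv⟩ := (hE (fun v => e.symm (a * φ (e v)))).2
        ⟨a, φ, ha, fun v => e.apply_symm_apply _⟩
      obtain ⟨g, hg⟩ := hfrom h hh (e.symm b)
      refine ⟨g, Equiv.ext fun ω => (ψ.trans e.toEquiv).injective ?_⟩
      show e (ψ (g • ω)) = (ψ.trans e.toEquiv) (σ ω)
      rw [hσ, hg, map_add, hhv, e.apply_symm_apply, e.apply_symm_apply]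
      rfl

end

end Cfsg.Agent.BinaryAffine
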